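import Cfsg.Agent.Lib.CentralElement.Thompson
import Cfsg.Agent.Lib.PSolvable.Core

/-!
# Offenders on a central part of a normal 2-subgroup
-/

set_option autoImplicit false
set_option maxHeartbeats 400000

namespace Cfsg.Agent.Lib.CentralElement

open Subgroup

variable {G : Type*} [Group G]

/-- The order of a product with a normal subgroup. -/
theorem card_sup_mul [Finite G] (H N : Subgroup G) [N.Normal] :
    Nat.card (H ⊔ N : Subgroup G) * Nat.card (H ⊓ N : Subgroup G) = Nat.card H * Nat.card N := by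
  have h1 : Nat.card N * N.relIndex (H ⊔ N) = Nat.card (H ⊔ N : Subgroup G) := by
    rw [← relIndex_bot_left, ← relIndex_bot_left (H ⊔ N)]
    exact relIndex_mul_relIndex ⊥ N (H ⊔ N) bot_le le_sup_right
  have h2 : Nat.card (H ⊓ N : Subgroup G) * (H ⊓ N).relIndex H = Nat.card H := by
    rw [← relIndex_bot_left, ← relIndex_bot_left H]
    exact relIndex_mul_relIndex ⊥ (H ⊓ N) H bot_le inf_le_left
  rw [relIndex_sup_right] at h1
  rw [inf_relIndex_left] at h2
  rw [← h1, ← h2]
  ring

/-- Commutators of `B` with `V` are centralised by `B`. -/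
def Quad (V B : Subgroup G) : Prop :=
  ∀ a ∈ B, ∀ b ∈ B, ∀ v ∈ V, Commute (a * v * a⁻¹ * v⁻¹) b

/-- An offender on `V` in `S` over `P`. -/
structure Off (S P V B : Subgroup G) : Prop where
  lt : P < B
  le : B ≤ S
  quad : Quad V B
  card_le : Nat.card P * Nat.card V ≤
    Nat.card B * Nat.card (V ⊓ centralizer (B : Set G) : Subgroup G)

/-- A minimal offender. -/
def MinOff (S P V B : Subgroup G) : Prop := Off S P V B ∧ ∀ B' < B, ¬ Off S P V B'

theorem exists_minOff [Finite G] {S P V B : Subgroup G} (h : Off S P V B) :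
    ∃ B', MinOff S P V B' := by
  obtain ⟨B', hB', hmin⟩ := Set.exists_min_image {B' : Subgroup G | Off S P V B'}
    (fun B' => Nat.card B') (Set.toFinite _) ⟨B, h⟩
  refine ⟨B', hB', fun C hC hCoff => ?_⟩
  exact absurd (hmin C hCoff) (not_le_of_gt (Set.ncard_lt_ncard hC (Set.toFinite _)))

/-- A subgroup of index two of a minimal offender has the same fixed points. -/
theorem MinOff.centralizer_eq [Finite G] {S P V B B' : Subgroup G} (h : MinOff S P V B)
    (hPB : P < B') (hlt : B' < B) (h2 : Nat.card B ≤ 2 * Nat.card B') :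
    V ⊓ centralizer (B' : Set G) = V ⊓ centralizer (B : Set G) := by
  set C := V ⊓ centralizer (B : Set G) with hC
  set C' := V ⊓ centralizer (B' : Set G) with hC'
  have hCC : C ≤ C' := inf_le_inf_left _ (centralizer_le (SetLike.coe_subset_coe.mpr hlt.le))
  have hnot : Nat.card B' * Nat.card C' < Nat.card P * Nat.card V := by
    by_contra hcon
    exact h.2 B' hlt ⟨hPB, hlt.le.trans h.1.le,
      fun a ha b hb => h.1.quad a (hlt.le ha) b (hlt.le hb), not_lt.1 hcon⟩
  have hlt2 : Nat.card C' < 2 * Nat.card C := by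
    have h1 := h.1.card_le
    rw [← hC] at h1
    by_contra hcon
    have h3 : Nat.card B * Nat.card C ≤ Nat.card B' * Nat.card C' :=
      calc Nat.card B * Nat.card C ≤ 2 * Nat.card B' * Nat.card C := Nat.mul_le_mul_right _ h2
        _ = Nat.card B' * (2 * Nat.card C) := by ring
        _ ≤ _ := Nat.mul_le_mul_left _ (not_lt.1 hcon)
    omega
  obtain ⟨k, hk⟩ := card_dvd_of_le hCC
  have hk1 : k ≤ 1 := by
    by_contra hk2
    have := Nat.mul_le_mul_left (Nat.card C) (not_le.1 hk2)
    rw [← hk] at this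
    omega
  refine (eq_of_le_of_card_ge hCC ?_).symm
  rw [hk]
  calc Nat.card C * k ≤ Nat.card C * 1 := Nat.mul_le_mul_left _ hk1
    _ = _ := mul_one _

/-- Offenders are carried along by automorphisms. -/
theorem Off.map [Finite G] {S P V B : Subgroup G} [P.Normal] [V.Normal] (h : Off S P V B) (k : G)
    (hle : B.map (MulAut.conj k).toMonoidHom ≤ S) :
    Off S P V (B.map (MulAut.conj k).toMonoidHom) := by
  set σ := MulAut.conj k with hσ
  have hP : P.map σ.toMonoidHom = P := map_conj_eq P k
  have hV : V.map σ.toMonoidHom = V := map_conj_eq V k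
  refine ⟨?_, hle, ?_, ?_⟩
  · exact lt_of_eq_of_lt hP.symm ((map_lt_map_iff_of_injective σ.injective).2 h.lt)
  · rintro _ ⟨a, ha, rfl⟩ _ ⟨b, hb, rfl⟩ v hv
    rw [← hV] at hv
    obtain ⟨u, hu, rfl⟩ := hv
    have := (h.quad a ha b hb u hu).map σ.toMonoidHom
    simpa only [map_mul, map_inv] using this
  · refine h.card_le.trans (le_of_eq ?_)
    rw [card_map_of_injective σ.injective]
    congr 1
    have : (V ⊓ centralizer (B : Set G)).map σ.toMonoidHom =
        V ⊓ centralizer ((B.map σ.toMonoidHom : Subgroup G) : Set G) := by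
      ext x
      constructor
      · rintro ⟨u, ⟨hu, hc⟩, rfl⟩
        refine ⟨hV ▸ mem_map_of_mem _ hu, ?_⟩
        rintro _ ⟨b, hb, rfl⟩
        rw [← map_mul, hc b hb, map_mul]
      · rintro ⟨hx, hc⟩
        rw [← hV] at hx
        obtain ⟨u, hu, rfl⟩ := hx
        refine ⟨u, ⟨hu, fun b hb => σ.injective ?_⟩, rfl⟩
        rw [map_mul, map_mul]
        exact hc _ (mem_map_of_mem _ hb)
    rw [← this, card_map_of_injective σ.injective]
where
  map_conj_eq (N : Subgroup G) [N.Normal] (k : G) : N.map (MulAut.conj k).toMonoidHom = N := by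
    ext x
    constructor
    · rintro ⟨u, hu, rfl⟩
      exact Subgroup.Normal.conj_mem inferInstance u hu k
    · intro hx
      refine ⟨k⁻¹ * x * k, ?_, by simp [mul_assoc]⟩
      have := Subgroup.Normal.conj_mem (inferInstance : N.Normal) x hx k⁻¹
      rwa [inv_inv] at this

end Cfsg.Agent.Lib.CentralElement
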