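import Cfsg.Agent.Lib.Involves.SymFour

/-!
# A section `S₄` from an inverted element of order 3 modulo the centralizer
-/

set_option autoImplicit false
set_option maxHeartbeats 400000

namespace Cfsg.Agent.Lib.CentralElement

open Subgroup

variable {G : Type*} [Group G] [Finite G]

/-- An element of order 3 modulo `C(W)`, inverted modulo `C(W)`, gives a section `S₄`. -/
theorem involves_s4_of_inverted (W : Subgroup G) [W.Normal] (hW : Cfsg.IsElementaryAbelian 2 W)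
    {a y : G} (hy3 : y ^ 3 ∈ centralizer (W : Set G)) (hy : y ∉ centralizer (W : Set G))
    (hay : a * y * a⁻¹ * y ∈ centralizer (W : Set G)) :
    Cfsg.Involves (Equiv.Perm (Fin 4)) G := by
  classical
  haveI h3 : Fact (Nat.Prime 3) := ⟨Nat.prime_three⟩
  haveI : Fact (Nat.Prime 2) := ⟨Nat.prime_two⟩
  set C := centralizer (W : Set G) with hC
  let π := QuotientGroup.mk' C
  have hπ : ∀ g : G, π g = 1 ↔ g ∈ C := fun g => QuotientGroup.eq_one_iff g
  have hπy3 : π y ^ 3 = 1 := by rw [← map_pow, hπ]; exact hy3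
  have hπay : π a * π y * (π a)⁻¹ = (π y)⁻¹ := by
    have h := (hπ _).2 hay
    rw [map_mul, map_mul, map_mul, map_inv] at h
    exact eq_inv_of_mul_eq_one_left h
  -- a 3-element congruent to `y`
  obtain ⟨y1, hy1p, hy1⟩ : ∃ y1 : G, IsPGroup 3 (zpowers y1) ∧ π y1 = π y := by
    obtain ⟨e, m, hm, hem⟩ :=
      Nat.exists_eq_pow_mul_and_not_dvd (orderOf_pos y).ne' 3 (by norm_num)
    have hm0 : m ≠ 0 := fun h => hm (h ▸ dvd_zero _)
    obtain ⟨j, hj⟩ : ∃ j, (m * j) % 3 = 1 := by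
      rcases (by omega : m % 3 = 1 ∨ m % 3 = 2) with h | h
      · exact ⟨1, by rw [mul_one]; exact h⟩
      · exact ⟨2, by rw [Nat.mul_mod, h]⟩
    refine ⟨y ^ (m * j), ?_, ?_⟩
    · have hdvd : orderOf (y ^ (m * j)) ∣ 3 ^ e := by
        refine orderOf_dvd_of_pow_eq_one ?_
        rw [← pow_mul, show m * j * 3 ^ e = 3 ^ e * m * j by ring, ← hem, pow_mul,
          pow_orderOf_eq_one, one_pow]
      obtain ⟨i, -, hi⟩ := (Nat.dvd_prime_pow Nat.prime_three).1 hdvd
      exact IsPGroup.of_card (n := i) (by rw [Nat.card_zpowers, hi])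
    · rw [map_pow]
      conv_lhs => rw [← Nat.mod_add_div (m * j) 3, hj, pow_add, pow_one, pow_mul, hπy3, one_pow,
        mul_one]
  -- the group generated modulo `C` by `y`
  set L : Subgroup G := (zpowers (π y)).comap π with hL
  have hyL : y1 ∈ L := by rw [hL, mem_comap, hy1]; exact mem_zpowers _
  have haL : ∀ l ∈ L, a * l * a⁻¹ ∈ L := by
    intro l hl
    rw [hL, mem_comap] at hl ⊢
    obtain ⟨k, hk⟩ := mem_zpowers_iff.1 hl
    refine mem_zpowers_iff.2 ⟨-k, ?_⟩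
    rw [map_mul, map_mul, map_inv, ← hk, ← conj_zpow, hπay, inv_zpow, zpow_neg]
  obtain ⟨P, hP⟩ := (show IsPGroup 3 ((zpowers y1).subgroupOf L) from
    hy1p.comap_of_injective L.subtype L.subtype_injective).exists_le_sylow
  set P' : Subgroup G := (P : Subgroup L).map L.subtype with hP'
  have hP'p : IsPGroup 3 P' := P.isPGroup'.map _
  have hP'L : P' ≤ L := map_subtype_le _
  have hy1P : y1 ∈ P' := ⟨⟨y1, hyL⟩, hP (mem_subgroupOf.2 (mem_zpowers y1)), rfl⟩
  -- Frattini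
  obtain ⟨c, hc, hca⟩ : ∃ c ∈ L, ∀ x ∈ P', (c * a) * x * (c * a)⁻¹ ∈ P' := by
    set P'' : Subgroup G := P'.map (MulAut.conj a).toMonoidHom with hP''
    have hP''L : P'' ≤ L := by
      rintro _ ⟨x, hx, rfl⟩
      exact haL x (hP'L hx)
    obtain ⟨R, hR⟩ := (show IsPGroup 3 (P''.subgroupOf L) from
      (hP'p.map _).comap_of_injective L.subtype L.subtype_injective).exists_le_sylow
    obtain ⟨c, hcR⟩ := MulAction.exists_smul_eq L R P
    refine ⟨c, c.2, fun x hx => ?_⟩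
    have hxR : (⟨a * x * a⁻¹, haL x (hP'L hx)⟩ : L) ∈ (R : Subgroup L) :=
      hR (mem_subgroupOf.2 ⟨x, hx, rfl⟩)
    have hmem : c * ⟨a * x * a⁻¹, haL x (hP'L hx)⟩ * c⁻¹ ∈ (P : Subgroup L) := by
      rw [← hcR, Sylow.coe_subgroup_smul]
      exact Subgroup.smul_mem_pointwise_smul _ (MulAut.conj c) _ hxR
    exact ⟨_, hmem, by simp [mul_assoc]⟩
  set n0 := c * a with hn0
  have hn0y : π n0 * π y * (π n0)⁻¹ = (π y)⁻¹ := by
    obtain ⟨k, hk⟩ := mem_zpowers_iff.1 (show π c ∈ zpowers (π y) from hc)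
    rw [hn0, map_mul, mul_inv_rev, show π c * π a * π y * ((π a)⁻¹ * (π c)⁻¹) =
      π c * (π a * π y * (π a)⁻¹) * (π c)⁻¹ by group, hπay, ← hk]
    group
  have hn0P : n0 ∈ normalizer (P' : Set G) := by
    have hle : P'.map (MulAut.conj n0).toMonoidHom ≤ P' := by
      rintro _ ⟨x, hx, rfl⟩
      exact hca x hx
    have he : P'.map (MulAut.conj n0).toMonoidHom = P' :=
      eq_of_le_of_card_ge hle (card_map_of_injective (MulAut.conj n0).injective).ge
    refine mem_normalizer_iff.2 fun x => ⟨hca x, fun hx => ?_⟩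
    obtain ⟨z, hz, hzx⟩ := he.ge hx
    exact (mul_left_cancel (mul_right_cancel hzx) : z = x) ▸ hz
  -- a 2-element with the same property
  obtain ⟨e, r, hr, her⟩ :=
    Nat.exists_eq_pow_mul_and_not_dvd (orderOf_pos n0).ne' 2 (by norm_num)
  set n := n0 ^ r with hn
  have hn2 : n ^ 2 ^ e = 1 := by rw [hn, ← pow_mul, mul_comm, ← her, pow_orderOf_eq_one]
  have hnP : n ∈ normalizer (P' : Set G) := pow_mem hn0P r
  have hny : π n * π y * (π n)⁻¹ = (π y)⁻¹ := by
    have h2 : ∀ k : ℕ, π n0 ^ (2 * k) * π y * (π n0 ^ (2 * k))⁻¹ = π y := by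
      intro k
      induction k with
      | zero => simp
      | succ k ih =>
        calc π n0 ^ (2 * (k + 1)) * π y * (π n0 ^ (2 * (k + 1)))⁻¹
            = π n0 * (π n0 * (π n0 ^ (2 * k) * π y * (π n0 ^ (2 * k))⁻¹) * (π n0)⁻¹) * (π n0)⁻¹ := by
              rw [show 2 * (k + 1) = 1 + (1 + 2 * k) by ring, pow_add, pow_add, pow_one]; group
          _ = π y := by rw [ih, hn0y, ← conj_inv, hn0y, inv_inv]
    obtain ⟨k, hk⟩ : Odd r := Nat.odd_iff.2 (by omega)
    rw [hn, map_pow, hk, pow_succ', mul_inv_rev, show π n0 * π n0 ^ (2 * k) * π y *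
      ((π n0 ^ (2 * k))⁻¹ * (π n0)⁻¹) = π n0 * (π n0 ^ (2 * k) * π y * (π n0 ^ (2 * k))⁻¹) *
        (π n0)⁻¹ by group, h2, hn0y]
  -- a fixed point of `n²` on the 3-elements congruent to `y`
  let Ω := {z : G // z ∈ P' ∧ π z = π y}
  let Q := zpowers (n ^ 2)
  have hπn2 : ∀ q ∈ Q, π q * π y * (π q)⁻¹ = π y := by
    intro q hq
    have h1 : Commute (π (n ^ 2)) (π y) := by
      show π (n ^ 2) * π y = π y * π (n ^ 2)
      rw [← mul_inv_eq_iff_eq_mul, map_pow, pow_two]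
      calc π n * π n * π y * (π n * π n)⁻¹ = π n * (π n * π y * (π n)⁻¹) * (π n)⁻¹ := by group
        _ = π y := by rw [hny, ← conj_inv, hny, inv_inv]
    obtain ⟨k, rfl⟩ := mem_zpowers_iff.1 hq
    rw [map_zpow, (h1.zpow_left k).eq, mul_inv_cancel_right]
  have hQP : Q ≤ normalizer (P' : Set G) := zpowers_le.2 (pow_mem hnP 2)
  let act : MulAction Q Ω :=
    { smul := fun q z => ⟨q * z.1 * (q : G)⁻¹, (mem_normalizer_iff.1 (hQP q.2) _).1 z.2.1, by
        rw [map_mul, map_mul, map_inv, z.2.2, hπn2 q q.2]⟩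
      one_smul := fun z => Subtype.ext (show ((1 : Q) : G) * z.1 * ((1 : Q) : G)⁻¹ = z.1 by simp)
      mul_smul := fun q q' z => Subtype.ext (show ((q * q' : Q) : G) * z.1 * ((q * q' : Q) : G)⁻¹ =
        q * (q' * z.1 * (q' : G)⁻¹) * (q : G)⁻¹ by simp [mul_assoc]) }
  have hQ2 : IsPGroup 2 Q := by
    have hdvd : orderOf (n ^ 2) ∣ 2 ^ e := orderOf_dvd_of_pow_eq_one (by
      rw [← pow_mul, mul_comm, pow_mul, hn2, one_pow])
    obtain ⟨i, -, hi⟩ := (Nat.dvd_prime_pow Nat.prime_two).1 hdvd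
    exact IsPGroup.of_card (n := i) (by rw [Nat.card_zpowers, hi])
  have hΩ : ¬ 2 ∣ Nat.card Ω := by
    have hcard : Nat.card Ω = Nat.card (P' ⊓ C : Subgroup G) := by
      refine Nat.card_congr
        { toFun := fun z => ⟨y1⁻¹ * z.1, P'.mul_mem (P'.inv_mem hy1P) z.2.1, (hπ _).1 (by
            rw [map_mul, map_inv, hy1, z.2.2, inv_mul_cancel])⟩
          invFun := fun r => ⟨y1 * r.1, P'.mul_mem hy1P r.2.1, by
            rw [map_mul, (hπ _).2 r.2.2, mul_one, hy1]⟩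
          left_inv := fun z => Subtype.ext (mul_inv_cancel_left _ _)
          right_inv := fun r => Subtype.ext (inv_mul_cancel_left _ _) }
    obtain ⟨k, hk⟩ := (hP'p.to_le (inf_le_left : P' ⊓ C ≤ P')).exists_card_eq
    rw [hcard, hk]
    intro h2
    have := (Nat.prime_dvd_prime_iff_eq Nat.prime_two Nat.prime_three).1
      (Nat.prime_two.dvd_of_dvd_pow h2)
    omega
  obtain ⟨⟨z, hzP, hzy⟩, hz⟩ := hQ2.nonempty_fixed_point_of_prime_not_dvd_card Ω hΩ
  have hfix : n ^ 2 * z * (n ^ 2)⁻¹ = z :=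
    congrArg Subtype.val (hz ⟨n ^ 2, mem_zpowers _⟩)
  set y2 := z⁻¹ * (n * z * n⁻¹) with hy2
  have hπy2 : π y2 = π y := by
    rw [hy2, map_mul, map_mul, map_mul, map_inv, map_inv, hzy, hny]
    calc (π y)⁻¹ * (π y)⁻¹ = (π y ^ 3)⁻¹ * π y := by group
      _ = π y := by rw [hπy3, inv_one, one_mul]
  refine Involves.involves_s4_of_pair W hW (x := n) (y := y2) ?_ ?_ ⟨e, hn2⟩ ?_ ?_ ?_
  · rw [normalizer_eq_top_iff.2 inferInstance]; exact mem_top _
  · rw [normalizer_eq_top_iff.2 inferInstance]; exact mem_top _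
  · calc n * y2 * n⁻¹ = (n * z * n⁻¹)⁻¹ * (n ^ 2 * z * (n ^ 2)⁻¹) := by
          rw [hy2, pow_two]; group
      _ = y2⁻¹ := by rw [hfix, hy2]; group
  · rw [← hC, ← hπ, map_pow, hπy2, hπy3]
  · rw [← hC, ← hπ, hπy2, hπ]; exact hy

end Cfsg.Agent.Lib.CentralElement
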