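import Cfsg.Agent.Lib.CentralElement.Norm
import Cfsg.Agent.Lib.CentralElement.Offender
import Cfsg.Agent.Lib.CentralElement.SFour
import Cfsg.Agent.Lib.Functor.WeakClosure
import Cfsg.Agent.Lib.Involution.Basic
import Cfsg.Agent.Lib.Involution.BaerSuzuki

/-!
# The central case of Glauberman's weak closure theorem for `p = 2`, no section `S₄`

An element with central square, fixed by every proper subgroup over a Sylow 2-subgroup `S`, is
central unless `J(S) ≤ O₂(G)`, when `S₄` is not a section.
-/

set_option autoImplicit false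
set_option maxHeartbeats 800000

namespace Cfsg.Agent.Lib.CentralElement

open Subgroup Cfsg
open scoped commutatorElement

universe u

variable {G : Type u} [Group G] [Finite G]

theorem map_le_of_centralizes {V : Subgroup G} {X : Set G} (hX : ∀ g ∈ X, g ∈ centralizer (V : Set G))
    {H : Subgroup G} (hH : H = closure X) : H ≤ centralizer (V : Set G) :=
  hH ▸ (closure_le _).2 hX

theorem mem_center_of_s4Free (S : Sylow 2 G) {x : G} (hxP : x ∈ pCore 2 G)
    (hSx : (S : Subgroup G) ≤ centralizer ({x} : Set G))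
    (hmax : ∀ K : Subgroup G, K ≠ ⊤ → (S : Subgroup G) ≤ K → K ≤ centralizer ({x} : Set G))
    (hsq : x ^ 2 ∈ center G) (hJ : ¬ thompsonSubgroupAOf (S : Subgroup G) ≤ pCore 2 G)
    (hfree : ¬ Involves (Equiv.Perm (Fin 4)) G) : x ∈ center G := by
  classical
  haveI : Fact (Nat.Prime 2) := ⟨Nat.prime_two⟩
  set M := centralizer ({x} : Set G) with hM
  by_contra hxc
  have hMt : M ≠ ⊤ := fun h => hxc (mem_center_iff.2 fun g =>
    mem_centralizer_singleton_iff.1 (h ▸ mem_top g : g ∈ M))
  set P := pCore 2 G with hPdef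
  haveI hPn : P.Normal :=
    @Subgroup.normal_of_characteristic _ _ _ PSolvable.pCore_characteristic
  have hP2 : IsPGroup 2 P := PSolvable.pCore_isPGroup
  have hPS : P ≤ (S : Subgroup G) := hP2.le_sylow_of_normal S
  set Zc := P ⊓ centralizer (P : Set G) with hZc
  haveI hZcn : Zc.Normal := inferInstance
  have hxZ : x ∈ Zc := ⟨hxP, fun q hq => mem_centralizer_singleton_iff.1 (hSx (hPS hq))⟩
  have hZcomm : ∀ a ∈ Zc, ∀ q ∈ P, Commute a q := fun a ha q hq => (ha.2 q hq).symm
  set V := normalClosure ({x} : Set G) with hVdef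
  haveI hVn : V.Normal := normalClosure_normal
  have hVZ : V ≤ Zc := normalClosure_le_normal (Set.singleton_subset_iff.2 hxZ)
  have hxV : x ∈ V := subset_normalClosure (Set.mem_singleton x)
  have hVab : ∀ a ∈ V, ∀ b ∈ V, Commute a b := fun a ha b hb => hZcomm a (hVZ ha) b (hVZ hb).1
  -- squares are central
  have hVsq : ∀ v ∈ V, v ^ 2 ∈ center G := by
    intro v hv
    rw [hVdef, normalClosure] at hv
    induction hv using closure_induction with
    | mem y hy =>
      obtain ⟨_, rfl, hc⟩ := Group.mem_conjugatesOfSet_iff.1 hy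
      obtain ⟨g, rfl⟩ := isConj_iff.1 hc
      rw [conj_pow]
      have := mem_center_iff.1 hsq g
      rwa [this, mul_inv_cancel_right]
    | one => simp
    | mul a b ha hb iha ihb =>
      rw [(show Commute a b from hVab a ha b hb).mul_pow]
      exact mul_mem iha ihb
    | inv a ha ih => rw [inv_pow]; exact inv_mem ih
  set C := centralizer (V : Set G) with hCdef
  haveI hCn : C.Normal := inferInstance
  have hCM : C ≤ M := centralizer_le (Set.singleton_subset_iff.2 hxV)
  have hPC : P ≤ C := fun q hq v hv => (hZcomm v (hVZ hv) q hq).eq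
  -- Frattini
  have hFr : ∀ L : Subgroup G, L.Normal → L ≤ M → (S : Subgroup G) ⊓ L ≤ P := by
    intro L hL hLM
    have hLtop : (⊤ : Subgroup G) ≤ normalizer (L : Set G) := by rw [normalizer_eq_top_iff.2 hL]
    obtain ⟨S', hS'⟩ := ((Functor.isSylowIn_top_of_sylow S).inf_normal le_top hLtop).exists_sylow
    have hsup := Sylow.normalizer_sup_eq_top S'
    rw [hS', subgroupOf_map_subtype, inf_eq_left.2 (inf_le_right : (S : Subgroup G) ⊓ L ≤ L)] at hsup
    by_cases hn : normalizer (((S : Subgroup G) ⊓ L : Subgroup G) : Set G) = ⊤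
    · exact @PSolvable.le_pCore G _ 2 _ (normalizer_eq_top_iff.1 hn) (S.isPGroup'.to_le inf_le_left)
    · exfalso
      refine hMt (top_le_iff.1 (hsup.ge.trans (sup_le (hmax _ hn ?_) hLM)))
      intro s hs
      refine mem_normalizer_iff.2 fun y => ⟨fun hy => mem_inf.2 ⟨?_, hL.conj_mem y (mem_inf.1 hy).2 s⟩,
        fun hy => mem_inf.2 ⟨?_, ?_⟩⟩
      · exact mul_mem (mul_mem hs (mem_inf.1 hy).1) (inv_mem hs)
      · have h1 : s⁻¹ * (s * y * s⁻¹) * s ∈ (S : Subgroup G) :=
          mul_mem (mul_mem (inv_mem hs) (mem_inf.1 hy).1) hs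
        rwa [show s⁻¹ * (s * y * s⁻¹) * s = y by group] at h1
      · have := hL.conj_mem _ (mem_inf.1 hy).2 s⁻¹
        simpa [mul_assoc] using this
  have hSC : (S : Subgroup G) ⊓ C ≤ P := hFr C hCn hCM
  -- the 2-core modulo `C`
  have hO2 : ∀ N : Subgroup (G ⧸ C), N.Normal → IsPGroup 2 N → ∀ a ∈ (S : Subgroup G),
      (a : G ⧸ C) ∈ N → a ∈ P := by
    intro N hN hN2 a ha haN
    haveI := hN
    set L := N.comap (QuotientGroup.mk' C) with hL
    haveI hLn : L.Normal := hN.comap _
    refine hFr L hLn ?_ ⟨ha, haN⟩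
    have hCL : C ≤ L := fun c hc => by
      show (c : G ⧸ C) ∈ N
      rw [(QuotientGroup.eq_one_iff c).2 hc]
      exact one_mem N
    set L' := C ⊔ ((S : Subgroup G) ⊓ L) with hL'
    have h1 : L'.relIndex L ∣ C.relIndex L := relIndex_dvd_of_le_left L le_sup_left
    have h2 : L'.relIndex L ∣ ((S : Subgroup G) ⊓ L).relIndex L :=
      relIndex_dvd_of_le_left L le_sup_right
    have hCidx : C.relIndex L = Nat.card N := by
      conv_lhs => rw [← QuotientGroup.ker_mk' C]
      rw [relIndex_ker, map_comap_eq_self_of_surjective (QuotientGroup.mk'_surjective C)]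
    obtain ⟨k, hk⟩ := hN2.exists_card_eq
    have hodd : ¬ 2 ∣ ((S : Subgroup G) ⊓ L).relIndex L :=
      ((Functor.isSylowIn_top_of_sylow S).inf_normal le_top
        (by rw [normalizer_eq_top_iff.2 hLn])).not_dvd
    have h12 : L'.relIndex L = 1 := by
      obtain ⟨i, -, hi⟩ := (Nat.dvd_prime_pow Nat.prime_two).1 (hk ▸ hCidx ▸ h1)
      rcases i with _ | i
      · simpa using hi
      · exact absurd (dvd_trans (hi ▸ dvd_pow_self 2 (Nat.succ_ne_zero i)) h2) hodd
    exact (relIndex_eq_one.1 h12).trans (sup_le hCM (inf_le_left.trans hSx))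
  -- an offender
  have hSn : (S : Subgroup G) ≤ normalizer (Zc : Set G) := by
    rw [normalizer_eq_top_iff.2 hZcn]; exact le_top
  obtain ⟨A, hA, hAP, hAN⟩ := exists_normalized_not_le_of S.isPGroup' (inf_le_left : Zc ≤ P) hPS hSn
    hZcomm hJ
  have hAV : ∀ v ∈ V, ∀ a ∈ A, v * a * v⁻¹ ∈ A := fun v hv a ha =>
    (mem_normalizer_iff.1 (hAN (hVZ hv)) a).1 ha
  have hoff : Off (S : Subgroup G) P V (A ⊔ P) := by
    refine ⟨lt_of_le_of_ne le_sup_right fun h => hAP (h ▸ le_sup_left), sup_le hA.1 hPS, ?_, ?_⟩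
    · intro a ha b hb v hv
      obtain ⟨a', ha', q, hq, rfl⟩ := mem_sup_of_normal_right.1 ha
      obtain ⟨b', hb', r, hr, rfl⟩ := mem_sup_of_normal_right.1 hb
      set c := a' * v * a'⁻¹ * v⁻¹ with hc
      have hqv : q * v * q⁻¹ = v := by rw [← hPC hq v hv, mul_inv_cancel_right]
      have hcV : c ∈ V := mul_mem (hVn.conj_mem v hv a') (inv_mem hv)
      have hcA : c ∈ A := by
        rw [hc, mul_assoc, mul_assoc, ← mul_assoc v a'⁻¹ v⁻¹]
        exact mul_mem ha' (hAV v hv _ (inv_mem ha'))
      rw [show a' * q * v * (a' * q)⁻¹ * v⁻¹ = a' * (q * v * q⁻¹) * a'⁻¹ * v⁻¹ by group, hqv]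
      exact (hA.2.1.1 c hcA b' hb').mul_right (hZcomm c (hVZ hcV) r hr)
    · have hPA := card_sup_mul A P
      have hAV' := card_sup_mul (A ⊓ P) V
      have hcent : V ⊓ centralizer ((A ⊔ P : Subgroup G) : Set G) = A ⊓ V := by
        refine le_antisymm ?_ ?_
        · intro v hv
          exact mem_inf.2 ⟨ZJ.mem_of_commute hA (hPS (hVZ (mem_inf.1 hv).1).1) (pow_zero v)
            fun a ha => (mem_centralizer_iff.1 (mem_inf.1 hv).2 a (mem_sup_left ha)).symm,
            (mem_inf.1 hv).1⟩
        · intro v hv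
          refine mem_inf.2 ⟨(mem_inf.1 hv).2, mem_centralizer_iff.2 fun b hb => ?_⟩
          obtain ⟨a', ha', r, hr, rfl⟩ := mem_sup_of_normal_right.1 hb
          exact ((hA.2.1.1 v hv.1 a' ha').mul_right (hZcomm v (hVZ hv.2) r hr)).symm.eq
      have hle : Nat.card ((A ⊓ P) ⊔ V : Subgroup G) ≤ Nat.card A := by
        refine hA.2.2 _ (sup_le (inf_le_left.trans hA.1) ((hVZ.trans inf_le_left).trans hPS))
          ⟨fun s hs t ht => ?_, fun s _ => pow_zero s⟩
        obtain ⟨a', ha', v, hv, rfl⟩ := mem_sup_of_normal_right.1 hs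
        obtain ⟨b', hb', w, hw, rfl⟩ := mem_sup_of_normal_right.1 ht
        exact Commute.mul_left ((hA.2.1.1 a' ha'.1 b' hb'.1).mul_right
          (hZcomm w (hVZ hw) a' ha'.2).symm) ((hZcomm v (hVZ hv) b' hb'.2).mul_right (hVab v hv w hw))
      have hinf : A ⊓ P ⊓ V = A ⊓ V :=
        le_antisymm (inf_le_inf_right _ inf_le_left)
          fun v hv => ⟨⟨hv.1, (hVZ hv.2).1⟩, hv.2⟩
      rw [hinf] at hAV'
      rw [hcent]
      have hpos : 0 < Nat.card (A ⊓ P : Subgroup G) := Nat.card_pos
      refine Nat.le_of_mul_le_mul_right ?_ hpos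
      calc Nat.card P * Nat.card V * Nat.card (A ⊓ P : Subgroup G)
          = Nat.card P * (Nat.card (A ⊓ P : Subgroup G) * Nat.card V) := by ring
        _ = Nat.card P * (Nat.card ((A ⊓ P) ⊔ V : Subgroup G) * Nat.card (A ⊓ V : Subgroup G)) := by
            rw [hAV']
        _ ≤ Nat.card P * (Nat.card A * Nat.card (A ⊓ V : Subgroup G)) :=
            Nat.mul_le_mul_left _ (Nat.mul_le_mul_right _ hle)
        _ = Nat.card A * Nat.card P * Nat.card (A ⊓ V : Subgroup G) := by ring
        _ = _ := by rw [← hPA]; ring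
  by_cases hbig : ∃ B, MinOff (S : Subgroup G) P V B ∧ 2 * Nat.card P < Nat.card B
  · -- a large minimal offender
    let gen : Set G := {g | ∃ B, MinOff (S : Subgroup G) P V B ∧ 2 * Nat.card P < Nat.card B ∧ g ∈ B}
    set D := closure gen with hD
    have hDS : D ≤ (S : Subgroup G) :=
      (closure_le _).2 fun g ⟨B, hB, _, hg⟩ => hB.1.le hg
    have hDP : ¬ D ≤ P := by
      obtain ⟨B, hB, hB2⟩ := hbig
      intro h
      exact hB.1.lt.not_ge fun g hg => h (subset_closure ⟨B, hB, hB2, hg⟩)
    have hcjD : ∀ k : G, Functor.cj k D ≤ (S : Subgroup G) → Functor.cj k D ≤ D := by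
      intro k hk
      rw [Functor.cj, hD, MonoidHom.map_closure, closure_le]
      rintro _ ⟨g, ⟨B, hB, hB2, hg⟩, rfl⟩
      have hBD : B ≤ D := fun b hb => subset_closure ⟨B, hB, hB2, hb⟩
      have hBS : B.map (MulAut.conj k).toMonoidHom ≤ (S : Subgroup G) :=
        (map_mono hBD).trans hk
      refine subset_closure ⟨B.map (MulAut.conj k).toMonoidHom, ⟨hB.1.map k hBS, fun B' hlt hoff' => ?_⟩,
        by rwa [card_map_of_injective (MulAut.conj k).injective], mem_map_of_mem _ hg⟩
      have hlt' : B'.map (MulAut.conj k⁻¹).toMonoidHom < B := by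
        have h1 := (map_lt_map_iff_of_injective (f := (MulAut.conj k⁻¹).toMonoidHom)
          (MulAut.conj k⁻¹).injective).2 hlt
        rwa [show (B.map (MulAut.conj k).toMonoidHom).map (MulAut.conj k⁻¹).toMonoidHom = B by
          rw [Subgroup.map_map]; convert Subgroup.map_id B using 2; ext y; simp [mul_assoc]] at h1
      exact hB.2 _ hlt' (hoff'.map k⁻¹ (hlt'.le.trans hB.1.le))
    have hSD : (S : Subgroup G) ≤ normalizer (D : Set G) := fun s hs =>
      Functor.mem_normalizer_of_cj_le (hcjD s ((Functor.cj_mono s hDS).trans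
        (Functor.cj_eq_self_of_mem (le_normalizer hs)).le))
    have hDn : normalizer (D : Set G) ≠ ⊤ := fun h => hDP
      (@PSolvable.le_pCore G _ 2 _ (normalizer_eq_top_iff.1 h) (S.isPGroup'.to_le hDS))
    have hND : normalizer (D : Set G) ≤ M := hmax _ hDn hSD
    haveI : IsMulCommutative V := ⟨⟨fun a b => Subtype.ext (hVab a a.2 b b.2)⟩⟩
    let _ : CommGroup V := { mul_comm := fun a b => mul_comm' a b }
    let _ := Fintype.ofFinite (G ⧸ M)
    let f : G ⧸ M → V := fun q => ⟨q.out * x * q.out⁻¹, hVn.conj_mem x hxV q.out⟩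
    have hf : ∀ g : G, f (g : G ⧸ M) = ⟨g * x * g⁻¹, hVn.conj_mem x hxV g⟩ := by
      intro g
      obtain ⟨m, hm⟩ := QuotientGroup.mk_out_eq_mul M g
      refine Subtype.ext ?_
      show (g : G ⧸ M).out * x * ((g : G ⧸ M).out)⁻¹ = g * x * g⁻¹
      have hmx : (m : G) * x = x * m := mem_centralizer_singleton_iff.mp m.2
      rw [hm]
      calc g * m * x * (g * m)⁻¹ = g * ((m : G) * x) * (m : G)⁻¹ * g⁻¹ := by group
        _ = g * x * g⁻¹ := by rw [hmx]; group
    let cg : G → (V →* V) := fun g =>
      { toFun := fun v => ⟨g * v * g⁻¹, hVn.conj_mem (v : G) v.2 g⟩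
        map_one' := by simp
        map_mul' := fun a b => Subtype.ext (by simp [mul_assoc]) }
    have hfsmul : ∀ g : G, ∀ q : G ⧸ M, f (g • q) = cg g (f q) := by
      intro g q
      induction q using QuotientGroup.induction_on with
      | H h =>
        rw [MulAction.Quotient.smul_coe, smul_eq_mul, hf, hf]
        exact Subtype.ext (by simp [cg, mul_assoc])
    let N : V := ∏ q : G ⧸ M, f q
    have hNc : (N : G) ∈ center G := by
      rw [mem_center_iff]
      intro g
      have h1 : cg g N = N := by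
        show cg g (∏ q : G ⧸ M, f q) = ∏ q : G ⧸ M, f q
        rw [map_prod]
        exact Fintype.prod_equiv (MulAction.toPerm g) _ _ fun q => (hfsmul g q).symm
      exact mul_inv_eq_iff_eq_mul.mp (congrArg Subtype.val h1)
    let ψ : V →* V ⧸ (center G).subgroupOf V := QuotientGroup.mk' _
    let φ : G ⧸ M → V ⧸ (center G).subgroupOf V := fun q => ψ (f q)
    have hnorm : ∀ v ∈ gen, ∀ D1 : Subgroup G, D1 ≤ D → v ∉ D1 →
        (∀ d ∈ D, ∃ i < 2, ∃ e ∈ D1, d = v ^ i * e) →
        ∀ t : Finset (G ⧸ M), (∀ e ∈ D1, ∀ q ∈ t, e • q ∈ t) →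
          ∏ i ∈ Finset.range 2, ∏ q ∈ t, φ (v ^ i • q) = 1 := by
      rintro v ⟨B, hB, hB2, hvB⟩ D1 hD1 hvD1 hcoset t ht
      set w : V := ∏ q ∈ t, f q with hw
      have hfix : ∀ e ∈ D1, cg e w = w := by
        intro e he
        rw [hw, map_prod]
        refine Finset.prod_bij (fun q _ => e • q) (fun q hq => ht e he q hq)
          (fun q _ r _ h => MulAction.injective e h) (fun q hq => ?_) (fun q _ => (hfsmul e q).symm)
        exact ⟨e⁻¹ • q, ht e⁻¹ (inv_mem he) q hq, smul_inv_smul e q⟩
      have hBD : B ≤ D := fun b hb => subset_closure ⟨B, hB, hB2, hb⟩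
      set B' := (B ⊓ D1) ⊔ P with hB'
      have hB'w : B' ≤ centralizer ({(w : G)} : Set G) := by
        refine sup_le (fun e he => ?_) fun r hr => ?_
        · rw [mem_centralizer_singleton_iff]
          exact mul_inv_eq_iff_eq_mul.1 (congrArg Subtype.val (hfix e he.2))
        · rw [mem_centralizer_singleton_iff]
          exact (hPC hr _ w.2).symm
      have hB'B : B' ≤ B := sup_le inf_le_left hB.1.lt.le
      have hvw : v * (w : G) = w * v := by
        by_cases hvB' : v ∈ B'
        · exact mem_centralizer_singleton_iff.1 (hB'w hvB')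
        have hlt : B' < B := lt_of_le_of_ne hB'B fun h => hvB' (h ▸ hvB)
        have h2 : Nat.card B ≤ 2 * Nat.card B' := by
          let F : Fin 2 × B' → G := fun ie => v ^ (ie.1 : ℕ) * ie.2
          have hsurj : (B : Set G) ⊆ Set.range F := by
            intro b hb
            obtain ⟨i, hi, e, he, hbe⟩ := hcoset b (hBD hb)
            refine ⟨(⟨i, hi⟩, ⟨e, mem_sup_left ⟨?_, he⟩⟩), hbe.symm⟩
            show e ∈ B
            rw [show e = (v ^ i)⁻¹ * b by rw [hbe, inv_mul_cancel_left]]
            exact mul_mem (inv_mem (pow_mem hvB i)) hb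
          calc Nat.card B = (B : Set G).ncard := Nat.card_coe_set_eq _
            _ ≤ (Set.range F).ncard := Set.ncard_le_ncard hsurj (Set.toFinite _)
            _ ≤ Nat.card (Fin 2 × B') := by
                rw [← Nat.card_coe_set_eq]; exact Finite.card_range_le F
            _ = _ := by rw [Nat.card_prod, Nat.card_fin]
        have hPB' : P < B' := by
          refine lt_of_le_of_ne le_sup_right fun h => ?_
          rw [← h] at h2
          omega
        have hc := hB.centralizer_eq hPB' hlt h2
        have hwC : (w : G) ∈ V ⊓ centralizer (B : Set G) := hc ▸ ⟨w.2, fun b hb =>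
          mem_centralizer_singleton_iff.1 (hB'w hb)⟩
        exact hwC.2 v hvB
      rw [Finset.prod_range_succ, Finset.prod_range_one]
      have h0 : ∏ q ∈ t, φ (v ^ 0 • q) = ψ w := by
        rw [hw, map_prod]; exact Finset.prod_congr rfl fun q _ => by rw [pow_zero, one_smul]
      have h1 : ∏ q ∈ t, φ (v ^ 1 • q) = ψ (cg v w) := by
        rw [hw, map_prod, map_prod]
        exact Finset.prod_congr rfl fun q _ => by rw [pow_one]; exact congrArg ψ (hfsmul v q)
      have h2 : cg v w = w := Subtype.ext (show v * (w : G) * v⁻¹ = w by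
        rw [hvw, mul_inv_cancel_right])
      rw [h0, h1, h2, ← map_mul]
      apply (QuotientGroup.eq_one_iff _).mpr
      rw [mem_subgroupOf, Subgroup.coe_mul, ← pow_two]
      exact hVsq _ w.2
    have huniv := prod_eq_prod_filter_fixed_blocks (S.isPGroup'.to_le hDS) hD.symm φ hnorm Finset.univ
      (fun _ _ _ _ => Finset.mem_univ _)
    have hfilter : (Finset.univ.filter fun q : G ⧸ M => ∀ d ∈ D, d • q = q) =
        {((1 : G) : G ⧸ M)} := by
      ext q
      induction q using QuotientGroup.induction_on with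
      | H g =>
        simp only [Finset.mem_filter, Finset.mem_univ, true_and, Finset.mem_singleton]
        constructor
        · intro hq
          have hgD : Functor.cj g⁻¹ D ≤ M := by
            rw [Functor.cj_le_iff]
            intro d hd
            have := hq d hd
            rw [MulAction.Quotient.smul_coe, smul_eq_mul, QuotientGroup.eq] at this
            simpa [mul_assoc] using inv_mem this
          obtain ⟨m, hm', hle⟩ := ((Functor.isSylowIn_top_of_sylow S).inter hSx le_top).exists_cj_le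
            hgD (Functor.isPGroup_cj (S.isPGroup'.to_le hDS))
          rw [Functor.cj_cj] at hle
          have hmg := hND (Functor.mem_normalizer_of_cj_le (hcjD _ hle))
          rw [QuotientGroup.eq, mul_one]
          simpa using mul_mem (inv_mem hm') hmg
        · intro hq d hd
          rw [hq, MulAction.Quotient.smul_coe, smul_eq_mul, QuotientGroup.eq]
          simpa using hSx (hDS (inv_mem hd))
    have hNx : ψ N = ψ ⟨x, hxV⟩ := by
      show ψ (∏ q : G ⧸ M, f q) = _
      rw [map_prod]
      show ∏ q : G ⧸ M, φ q = _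
      rw [huniv, hfilter, Finset.prod_singleton]
      show ψ (f ((1 : G) : G ⧸ M)) = _
      rw [hf]
      exact congrArg ψ (Subtype.ext (by simp))
    have hy : (N : G)⁻¹ * x ∈ center G := mem_subgroupOf.mp (QuotientGroup.eq.mp hNx)
    exact hxc (by simpa using mul_mem hNc hy)
  · -- all minimal offenders are small: an element moving a subgroup of index two
    push Not at hbig
    obtain ⟨B, hB⟩ := exists_minOff hoff
    have hB2 := hbig B hB
    obtain ⟨a, haB, haP⟩ := SetLike.exists_of_lt hB.1.lt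
    have haS : a ∈ (S : Subgroup G) := hB.1.le haB
    have hidx : (P.subgroupOf B).index = 2 := by
      have h1 : Nat.card P * P.relIndex B = Nat.card B := by
        rw [← relIndex_bot_left, ← relIndex_bot_left B]
        exact relIndex_mul_relIndex ⊥ P B bot_le hB.1.lt.le
      have h3 : P.relIndex B ≤ 2 := by
        by_contra hc
        have := Nat.mul_le_mul_left (Nat.card P) (not_le.1 hc)
        have : 0 < Nat.card P := Nat.card_pos
        rw [h1] at *
        nlinarith
      have h4 : P.relIndex B ≠ 1 := fun h => haP (relIndex_eq_one.1 h haB)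
      have h5 : P.relIndex B ≠ 0 := Subgroup.index_ne_zero_of_finite
      show P.relIndex B = 2
      omega
    have ha2 : a ^ 2 ∈ P := mem_subgroupOf.1 (sq_mem_of_index_two hidx ⟨a, haB⟩)
    have haC : Nat.card V ≤ 2 * Nat.card (V ⊓ centralizer ({a} : Set G) : Subgroup G) := by
      have h1 := hB.1.card_le
      have h2 : Nat.card (V ⊓ centralizer (B : Set G) : Subgroup G) ≤
          Nat.card (V ⊓ centralizer ({a} : Set G) : Subgroup G) :=
        card_le_of_le (inf_le_inf_left _ (centralizer_le (Set.singleton_subset_iff.2 haB)))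
      have h3 := Nat.mul_le_mul (hB2 : Nat.card B ≤ 2 * Nat.card P) h2
      refine Nat.le_of_mul_le_mul_left ((h1.trans h3).trans (le_of_eq (by ring))) (Nat.card_pos : 0 < Nat.card P)
    let π := QuotientGroup.mk' C
    have hπ : ∀ g : G, π g = 1 ↔ g ∈ C := fun g => QuotientGroup.eq_one_iff g
    have hπa : π a * π a = 1 := by rw [← map_mul, hπ, ← pow_two]; exact hPC ha2
    obtain ⟨gq, hgq⟩ : ∃ gq : G ⧸ C, ¬ IsPGroup 2 (closure ({π a, gq * π a * gq⁻¹} : Set (G ⧸ C))) := by
      by_contra hall
      push Not at hall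
      obtain ⟨N, hN, hN2, haN⟩ := Involution.baer_suzuki_element (π a) hall
      exact haP (hO2 N hN hN2 a haS haN)
    obtain ⟨g, rfl⟩ := QuotientGroup.mk'_surjective C gq
    set b := g * a * g⁻¹ with hb
    have hπb : π b * π b = 1 := by
      rw [hb, map_mul, map_mul, map_inv]
      calc π g * π a * (π g)⁻¹ * (π g * π a * (π g)⁻¹) = π g * (π a * π a) * (π g)⁻¹ := by group
        _ = 1 := by rw [hπa]; simp
    have hnp : ∀ n : ℕ, (π a * π b) ^ 2 ^ n ≠ 1 := fun n hn => hgq (by
      rw [show π g * π a * (π g)⁻¹ = π b by simp [hb]]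
      exact Involution.isPGroup_two_closure_pair hπa hπb n hn)
    obtain ⟨e, m, hm, hem⟩ :=
      Nat.exists_eq_pow_mul_and_not_dvd (orderOf_pos (π a * π b)).ne' 2 (by norm_num)
    set y := (a * b) ^ 2 ^ e with hy
    have hπy : orderOf (π y) = m := by
      rw [hy, map_pow, map_mul, orderOf_pow' _ (Nat.two_pow_pos e).ne', hem,
        Nat.gcd_mul_right_left, Nat.mul_div_cancel_left _ (Nat.two_pow_pos e)]
    have hm1 : m ≠ 1 := fun h => hnp e (by
      have h1 : orderOf ((π a * π b) ^ 2 ^ e) = 1 := by rw [← map_mul, ← map_pow]; rw [← hy, hπy, h]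
      exact orderOf_eq_one_iff.1 h1)
    have hay : π a * π y * (π a)⁻¹ = (π y)⁻¹ := by
      rw [hy, map_pow, map_mul, ← conj_pow, ← inv_pow]
      congr 1
      rw [mul_inv_rev, inv_eq_of_mul_eq_one_right hπa, inv_eq_of_mul_eq_one_right hπb]
      calc π a * (π a * π b) * π a = (π a * π a) * π b * π a := by group
        _ = _ := by rw [hπa, one_mul]
    -- the common fixed points
    set C1 := V ⊓ centralizer ({a} : Set G) ⊓ centralizer ({b} : Set G) with hC1
    have hyC1 : ∀ c ∈ C1, y * c = c * y := by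
      intro c hc
      have h1 : Commute c a := ((hc.1.2) a rfl).symm
      have h2 : Commute c b := ((hc.2) b rfl).symm
      exact ((h1.mul_right h2).pow_right _).symm.eq
    have hC1idx : (C1.subgroupOf V).index ≤ 4 := by
      have key : ∀ z : G, Nat.card (V ⊓ centralizer ({z} : Set G) : Subgroup G) * 2 ≥ Nat.card V →
          (centralizer ({z} : Set G)).relIndex V ≤ 2 := by
        intro z hz
        have h1 : Nat.card (V ⊓ centralizer ({z} : Set G) : Subgroup G) *
            (V ⊓ centralizer ({z} : Set G)).relIndex V = Nat.card V := by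
          rw [← relIndex_bot_left, ← relIndex_bot_left V]
          exact relIndex_mul_relIndex ⊥ _ V bot_le inf_le_left
        rw [inf_relIndex_left] at h1
        exact Nat.le_of_mul_le_mul_left (h1 ▸ hz) Nat.card_pos
      have hab : Nat.card (V ⊓ centralizer ({b} : Set G) : Subgroup G) =
          Nat.card (V ⊓ centralizer ({a} : Set G) : Subgroup G) := by
        refine Nat.card_congr
          { toFun := fun v => ⟨g⁻¹ * v * g, ?_, ?_⟩
            invFun := fun v => ⟨g * v * g⁻¹, hVn.conj_mem v v.2.1 g, ?_⟩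
            left_inv := fun v => Subtype.ext (by simp [mul_assoc])
            right_inv := fun v => Subtype.ext (by simp [mul_assoc]) }
        · have := hVn.conj_mem v v.2.1 g⁻¹
          rwa [inv_inv] at this
        · show g⁻¹ * (v : G) * g ∈ centralizer ({a} : Set G)
          rw [mem_centralizer_singleton_iff]
          have h := mem_centralizer_singleton_iff.1 v.2.2
          generalize (v : G) = u at h ⊢
          calc g⁻¹ * u * g * a = g⁻¹ * (u * b) * g := by rw [hb]; group
            _ = g⁻¹ * (b * u) * g := by rw [h]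
            _ = _ := by rw [hb]; group
        · show g * (v : G) * g⁻¹ ∈ centralizer ({b} : Set G)
          rw [mem_centralizer_singleton_iff]
          have h := mem_centralizer_singleton_iff.1 v.2.2
          rw [hb]
          generalize (v : G) = u at h ⊢
          calc g * u * g⁻¹ * (g * a * g⁻¹) = g * (u * a) * g⁻¹ := by group
            _ = _ := by rw [h]; group
      show C1.relIndex V ≤ 4
      rw [hC1, inf_assoc, inf_relIndex_left]
      calc _ ≤ _ := relIndex_inf_le
        _ ≤ 2 * 2 := Nat.mul_le_mul (key a (by omega)) (key b (by omega))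
        _ = 4 := rfl
    have hy6 : ∀ v ∈ V, y ^ 6 * v * (y ^ 6)⁻¹ * v⁻¹ ∈ C1 := by
      haveI : IsMulCommutative V := ⟨⟨fun s t => Subtype.ext (hVab s s.2 t t.2)⟩⟩
      let _ : CommGroup V := { mul_comm := fun s t => mul_comm' s t }
      let cy : G → (V →* V) := fun k =>
        { toFun := fun v => ⟨k * v * k⁻¹, hVn.conj_mem (v : G) v.2 k⟩
          map_one' := by simp
          map_mul' := fun s t => Subtype.ext (by simp [mul_assoc]) }
      have hfixC : C1.subgroupOf V ≤ (C1.subgroupOf V).comap (cy y) := by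
        intro c hc
        show y * (c : G) * y⁻¹ ∈ C1
        rw [hyC1 (c : G) hc, mul_inv_cancel_right]
        exact hc
      let T : (V ⧸ C1.subgroupOf V) →* (V ⧸ C1.subgroupOf V) :=
        QuotientGroup.map (C1.subgroupOf V) (C1.subgroupOf V) (cy y) hfixC
      have hTinj : Function.Injective T := by
        rw [injective_iff_map_eq_one]
        intro q
        induction q using QuotientGroup.induction_on with
        | H v =>
          intro h
          have h1 : y * (v : G) * y⁻¹ ∈ C1 := mem_subgroupOf.1 ((QuotientGroup.eq_one_iff _).1 h)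
          refine (QuotientGroup.eq_one_iff _).2 (mem_subgroupOf.2 ?_)
          have h2 := hyC1 _ h1
          rw [show (v : G) = y⁻¹ * (y * v * y⁻¹) * y by group, mul_assoc, ← h2, inv_mul_cancel_left]
          exact h1
      let σ : Equiv.Perm (V ⧸ C1.subgroupOf V) :=
        Equiv.ofBijective T (Finite.injective_iff_bijective.1 hTinj)
      have hσ1 : ∀ q, q ≠ 1 ↔ σ q ≠ 1 := fun q => not_congr
        ⟨fun h => by rw [h]; exact map_one T, fun h => hTinj (h.trans (map_one T).symm)⟩
      let τ := σ.subtypePerm (p := fun q => q ≠ 1) (fun q => (hσ1 q).symm)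
      have hτ : τ ^ 6 = 1 := by
        refine orderOf_dvd_iff_pow_eq_one.1 (orderOf_dvd_natCard τ |>.trans ?_)
        haveI := Fintype.ofFinite (V ⧸ C1.subgroupOf V)
        rw [Nat.card_perm]
        refine (Nat.factorial_dvd_factorial ?_).trans (show Nat.factorial 3 ∣ 6 from dvd_rfl)
        have h4 : Nat.card (V ⧸ C1.subgroupOf V) ≤ 4 := hC1idx
        have hlt : Nat.card {q : V ⧸ C1.subgroupOf V // q ≠ 1} <
            Nat.card (V ⧸ C1.subgroupOf V) := by
          rw [Nat.card_eq_fintype_card, Nat.card_eq_fintype_card]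
          exact Fintype.card_subtype_lt (x := 1) (fun h => h rfl)
        omega
      intro v hv
      have hpow : ∀ k : ℕ, ∀ u : V, (σ ^ k) (u : V ⧸ C1.subgroupOf V) =
          ((cy (y ^ k) u : V) : V ⧸ C1.subgroupOf V) := by
        intro k
        induction k with
        | zero => intro u; simp [cy]
        | succ k ih =>
          intro u
          rw [pow_succ', Equiv.Perm.mul_apply, ih]
          refine (QuotientGroup.map_mk _ _ _ hfixC _).trans (congrArg _ (Subtype.ext ?_))
          simp [cy, pow_succ', mul_assoc]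
      have hq : (σ ^ 6) ((⟨v, hv⟩ : V) : V ⧸ C1.subgroupOf V) = ((⟨v, hv⟩ : V) : V ⧸ C1.subgroupOf V) := by
        by_cases h1 : ((⟨v, hv⟩ : V) : V ⧸ C1.subgroupOf V) = 1
        · rw [h1]
          exact Equiv.Perm.pow_apply_eq_self_of_apply_eq_self (map_one T) 6
        · have h2 := congrArg (fun s : Equiv.Perm {q : V ⧸ C1.subgroupOf V // q ≠ 1} =>
            (s ⟨_, h1⟩).1) hτ
          simp only [τ, Equiv.Perm.subtypePerm_pow, Equiv.Perm.subtypePerm_apply,
            Equiv.Perm.one_apply] at h2
          exact h2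
      rw [hpow] at hq
      have h3 := mem_subgroupOf.1 (QuotientGroup.eq.1 hq.symm)
      simp only [Subgroup.coe_mul, Subgroup.coe_inv] at h3
      have h4 : (cy (y ^ 6) ⟨v, hv⟩ : G) = y ^ 6 * v * (y ^ 6)⁻¹ := rfl
      rw [h4, hVab v⁻¹ (inv_mem hv) _ (hVn.conj_mem v hv _)] at h3
      exact h3
    have hy12 : π y ^ 12 = 1 := by
      rw [← map_pow, hπ]
      intro v hv
      set c := y ^ 6 * v * (y ^ 6)⁻¹ * v⁻¹ with hc
      have hcC : c ∈ C1 := hy6 v hv
      have hvc : y ^ 6 * v * (y ^ 6)⁻¹ = c * v := by rw [hc, inv_mul_cancel_right]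
      have hc2 : c * c = 1 := by
        have h1 : (y ^ 6 * v * (y ^ 6)⁻¹) ^ 2 = v ^ 2 := by
          rw [conj_pow, mem_center_iff.1 (hVsq v hv), mul_inv_cancel_right]
        rw [hvc, (hVab c hcC.1.1 v hv).mul_pow] at h1
        rw [← pow_two]
        exact mul_eq_right.1 h1
      have h6c : y ^ 6 * c = c * y ^ 6 := ((Commute.pow_left (hyC1 c hcC : Commute y c)) 6).eq
      have h12 : y ^ 12 * v * (y ^ 12)⁻¹ = v := by
        calc y ^ 12 * v * (y ^ 12)⁻¹ = y ^ 6 * (y ^ 6 * v * (y ^ 6)⁻¹) * (y ^ 6)⁻¹ := by group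
          _ = (y ^ 6 * c) * (v * (y ^ 6)⁻¹) := by rw [hvc]; group
          _ = c * (y ^ 6 * v * (y ^ 6)⁻¹) := by rw [h6c]; group
          _ = v := by rw [hvc, ← mul_assoc, hc2, one_mul]
      exact (mul_inv_eq_iff_eq_mul.1 h12).symm
    have hm3 : m = 3 := by
      have h1 : m ∣ 3 * 2 ^ 2 := hπy ▸ orderOf_dvd_of_pow_eq_one hy12
      have h2 : Nat.Coprime m (2 ^ 2) :=
        ((Nat.prime_two.coprime_iff_not_dvd.2 hm).pow_left 2).symm
      rcases (Nat.dvd_prime Nat.prime_three).1 (h2.dvd_of_dvd_mul_right h1) with h | h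
      · exact absurd h hm1
      · exact h
    have hy3 : π y ^ 3 = 1 := by rw [← hm3, ← hπy, pow_orderOf_eq_one]
    -- the elements of order two
    let W : Subgroup G :=
      { carrier := {v | v ∈ V ∧ v ^ 2 = 1}
        one_mem' := ⟨V.one_mem, one_pow 2⟩
        mul_mem' := fun {s t} hs ht => ⟨V.mul_mem hs.1 ht.1, by
          rw [(hVab s hs.1 t ht.1).mul_pow, hs.2, ht.2, one_mul]⟩
        inv_mem' := fun {s} hs => ⟨V.inv_mem hs.1, by rw [inv_pow, hs.2, inv_one]⟩ }
    haveI hWn : W.Normal := ⟨fun v hv k => ⟨hVn.conj_mem v hv.1 k, by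
      rw [conj_pow, hv.2, mul_one, mul_inv_cancel]⟩⟩
    have hWel : IsElementaryAbelian 2 W :=
      ⟨⟨⟨fun s t => Subtype.ext (hVab s s.2.1 t t.2.1)⟩⟩, fun s hs => hs.2⟩
    have hWC : C ≤ centralizer (W : Set G) :=
      centralizer_le fun v hv => hv.1
    refine hfree (involves_s4_of_inverted W hWel (a := a) (y := y) (hWC ?_) ?_ (hWC ?_))
    · rw [← hπ, map_pow]; exact hy3
    · intro hyW
      have hsq1 : π y ^ 2 = 1 := by
        rw [← map_pow, hπ]
        intro v hv
        set c := y * v * y⁻¹ * v⁻¹ with hc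
        have hvc : y * v * y⁻¹ = c * v := by rw [hc, inv_mul_cancel_right]
        have hcV : c ∈ V := mul_mem (hVn.conj_mem v hv y) (inv_mem hv)
        have hc2 : c ^ 2 = 1 := by
          have h1 : (y * v * y⁻¹) ^ 2 = v ^ 2 := by
            rw [conj_pow, mem_center_iff.1 (hVsq v hv), mul_inv_cancel_right]
          rw [hvc, (hVab c hcV v hv).mul_pow] at h1
          exact mul_eq_right.1 h1
        have hyc : c * y = y * c := hyW c ⟨hcV, hc2⟩
        have h2 : y ^ 2 * v * (y ^ 2)⁻¹ = v := by
          calc y ^ 2 * v * (y ^ 2)⁻¹ = y * (y * v * y⁻¹) * y⁻¹ := by rw [pow_two]; group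
            _ = (y * c) * v * y⁻¹ := by rw [hvc]; group
            _ = c * (y * v * y⁻¹) := by rw [← hyc]; group
            _ = v := by rw [hvc, ← mul_assoc, ← pow_two, hc2, one_mul]
        exact (mul_inv_eq_iff_eq_mul.1 h2).symm
      have : m ∣ 2 := hπy ▸ orderOf_dvd_of_pow_eq_one hsq1
      rw [hm3] at this
      omega
    · rw [← hπ, map_mul, map_mul, map_mul, map_inv, hay, inv_mul_cancel]

end Cfsg.Agent.Lib.CentralElement
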