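import Mathlib

/-!
# Products over orbits of a `p`-group, grouped in blocks

A variant of `Functor.prod_eq_prod_filter_fixed` in which the vanishing hypothesis is needed only for
whole blocks of a maximal subgroup.
-/

set_option autoImplicit false

namespace Cfsg.Agent.Lib.CentralElement

open Subgroup MulAction

/-- The product over an invariant set equals the product over its fixed points. -/
theorem prod_eq_prod_filter_fixed_blocks {G α β : Type*} [Group G] [MulAction G α] [CommMonoid β]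
    [Finite G] {p : ℕ} [Fact p.Prime] {D : Subgroup G} (hD : IsPGroup p D)
    {gen : Set G} (hgen : closure gen = D) (φ : α → β)
    (hnorm : ∀ v ∈ gen, ∀ D1 : Subgroup G, D1 ≤ D → v ∉ D1 →
      (∀ d ∈ D, ∃ i < p, ∃ e ∈ D1, d = v ^ i * e) →
      ∀ t : Finset α, (∀ e ∈ D1, ∀ a ∈ t, e • a ∈ t) →
        ∏ i ∈ Finset.range p, ∏ a ∈ t, φ (v ^ i • a) = 1)
    (s : Finset α) (hs : ∀ d ∈ D, ∀ a ∈ s, d • a ∈ s)
    [DecidablePred fun a : α => ∀ d ∈ D, d • a = a] :
    ∏ a ∈ s, φ a = ∏ a ∈ s.filter (fun a => ∀ d ∈ D, d • a = a), φ a := by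
  classical
  rw [← Finset.prod_filter_mul_prod_filter_not s (fun a => ∀ d ∈ D, d • a = a)]
  suffices H : ∀ (n : ℕ) (t : Finset α), t.card ≤ n → (∀ d ∈ D, ∀ a ∈ t, d • a ∈ t) →
      (∀ a ∈ t, ¬ ∀ d ∈ D, d • a = a) → ∏ a ∈ t, φ a = 1 by
    rw [H _ _ le_rfl (fun d hd a ha => ?_) (fun a ha => (Finset.mem_filter.mp ha).2), mul_one]
    rw [Finset.mem_filter] at ha ⊢
    refine ⟨hs d hd a ha.1, fun hfix => ha.2 fun e he => ?_⟩
    have h1 := hfix (d * e * d⁻¹) (D.mul_mem (D.mul_mem hd he) (D.inv_mem hd))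
    rw [smul_smul, inv_mul_cancel_right, ← smul_smul] at h1
    exact MulAction.injective d h1
  intro n
  induction n with
  | zero => intro t ht _ _; rw [Finset.card_eq_zero.mp (Nat.le_zero.mp ht), Finset.prod_empty]
  | succ n ih =>
    intro t ht htD htfix
    rcases t.eq_empty_or_nonempty with rfl | ⟨a, ha⟩
    · exact Finset.prod_empty
    -- the orbit of `a`
    let O : Finset α := t.filter fun b => ∃ d ∈ D, d • a = b
    have hOt : O ⊆ t := Finset.filter_subset _ _
    have haO : a ∈ O := Finset.mem_filter.mpr ⟨ha, 1, D.one_mem, one_smul _ _⟩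
    have hOmem : ∀ b, b ∈ O ↔ ∃ d ∈ D, d • a = b := fun b =>
      ⟨fun hb => (Finset.mem_filter.mp hb).2,
        fun ⟨d, hd, hdb⟩ => Finset.mem_filter.mpr ⟨hdb ▸ htD d hd a ha, d, hd, hdb⟩⟩
    have hrest : ∏ b ∈ t \ O, φ b = 1 := by
      refine ih _ ?_ (fun d hd b hb => ?_) (fun b hb => htfix b (Finset.mem_sdiff.mp hb).1)
      · have h1 : t \ O ⊂ t := Finset.sdiff_ssubset hOt ⟨a, haO⟩
        have := Finset.card_lt_card h1
        omega
      · rw [Finset.mem_sdiff] at hb ⊢
        refine ⟨htD d hd b hb.1, fun h => hb.2 ?_⟩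
        obtain ⟨e, he, hea⟩ := (hOmem _).mp h
        exact (hOmem b).mpr ⟨d⁻¹ * e, D.mul_mem (D.inv_mem hd) he,
          by rw [← smul_smul, hea, inv_smul_smul]⟩
    rw [← Finset.prod_sdiff hOt, hrest, one_mul]
    -- a maximal subgroup of `D` containing the stabilizer
    let D0 : Subgroup D := (MulAction.stabilizer G a).subgroupOf D
    have hD0 : D0 ≠ ⊤ := fun h => htfix a ha fun d hd => by
      have : (⟨d, hd⟩ : D) ∈ D0 := h ▸ mem_top _
      exact this
    obtain ⟨D1, hD1, hle⟩ : ∃ D1 : Subgroup D, IsCoatom D1 ∧ D0 ≤ D1 :=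
      (eq_top_or_exists_le_coatom D0).resolve_left hD0
    have hnil : Group.IsNilpotent D := hD.isNilpotent
    have hD1n : D1.Normal :=
      (Group.normalizerCondition_of_isNilpotent (G := D)).normal_of_coatom D1 hD1
    obtain ⟨v, hv, hvD1⟩ : ∃ v ∈ gen, ∀ hvD : v ∈ D, (⟨v, hvD⟩ : D) ∉ D1 := by
      by_contra hcon
      push Not at hcon
      apply hD1.1
      rw [eq_top_iff]
      intro d _
      have hle' : closure gen ≤ D1.map D.subtype := by
        rw [closure_le]
        intro v hv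
        obtain ⟨hvD, hvm⟩ := hcon v hv
        exact ⟨⟨v, hvD⟩, hvm, rfl⟩
      obtain ⟨e, he, hed⟩ := hle' (show (d : G) ∈ closure gen by rw [hgen]; exact d.2)
      rwa [← show e = d from Subtype.ext hed]
    have hvD : v ∈ D := hgen ▸ subset_closure hv
    set w : D := ⟨v, hvD⟩ with hw
    have hwD1 : w ∉ D1 := hvD1 hvD
    -- `D1` has index `p`
    have hsimple : ∀ H : Subgroup D, D1 < H → H = ⊤ := fun H h => hD1.2 H h
    obtain ⟨k, hk⟩ := (hD.to_quotient D1).exists_card_eq
    have hwp : w ^ p ∈ D1 := by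
      by_contra hnot
      have hH : D1 ⊔ zpowers (w ^ p) = ⊤ := hsimple _ (left_lt_sup.mpr (by rwa [zpowers_le]))
      have hmem : w ∈ D1 ⊔ zpowers (w ^ p) := hH ▸ mem_top _
      obtain ⟨x, hx, _, ⟨j, rfl⟩, hxy⟩ := mem_sup_of_normal_left.mp hmem
      set q := (QuotientGroup.mk' D1) w with hq
      have h1 : q = (q ^ p) ^ j := by
        rw [hq]
        conv_lhs => rw [← hxy]
        simp [(QuotientGroup.eq_one_iff x).mpr hx]
      have hqne : q ≠ 1 := fun h => hwD1 ((QuotientGroup.eq_one_iff w).mp h)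
      have h2 : orderOf q ∣ p ^ k := hk ▸ orderOf_dvd_natCard q
      obtain ⟨i, -, hi⟩ := (Nat.dvd_prime_pow (Fact.out : p.Prime)).mp h2
      have h3 : orderOf q ≤ orderOf (q ^ p) := by
        apply Nat.le_of_dvd (orderOf_pos _)
        conv_lhs => rw [h1]
        exact orderOf_dvd_of_mem_zpowers ⟨j, rfl⟩
      rcases Nat.eq_zero_or_pos i with rfl | hipos
      · rw [pow_zero, orderOf_eq_one_iff] at hi; exact hqne hi
      · rw [orderOf_pow, hi, Nat.gcd_eq_right (dvd_pow_self p hipos.ne')] at h3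
        have := Nat.div_lt_self (Nat.pow_pos (n := i) (Fact.out : p.Prime).pos)
          (Fact.out : p.Prime).one_lt
        omega
    have hcoset : ∀ d : D, ∃ i < p, ∃ e ∈ D1, d = w ^ i * e := by
      intro d
      have hmem : d ∈ zpowers w ⊔ D1 := by
        rw [sup_comm, hsimple _ (left_lt_sup.mpr (by rwa [zpowers_le]))]
        exact mem_top _
      obtain ⟨_, ⟨j, rfl⟩, e, he, rfl⟩ := mem_sup_of_normal_right.mp hmem
      refine ⟨(j % (p : ℤ)).toNat, ?_, (w ^ ((p : ℕ) : ℤ)) ^ (j / (p : ℤ)) * e,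
        D1.mul_mem (D1.zpow_mem (by simpa using hwp) _) he, ?_⟩
      · have := Int.emod_lt_of_pos j (by exact_mod_cast (Fact.out : p.Prime).pos : (0 : ℤ) < p)
        have := Int.emod_nonneg j (by exact_mod_cast (Fact.out : p.Prime).ne_zero : (p : ℤ) ≠ 0)
        omega
      · rw [← mul_assoc, ← zpow_natCast, ← zpow_mul, ← zpow_add,
          Int.toNat_of_nonneg (Int.emod_nonneg j
            (by exact_mod_cast (Fact.out : p.Prime).ne_zero : (p : ℤ) ≠ 0)),
          Int.emod_add_mul_ediv]
    let O1 : Finset α := O.filter fun b => ∃ e ∈ D1, (e : G) • a = b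
    have huniq : ∀ i j : ℕ, i < p → j < p → ∀ e e' : D, e ∈ D1 → e' ∈ D1 →
        ((w ^ i * e : D) : G) • a = ((w ^ j * e' : D) : G) • a → i = j := by
      intro i j hi hj e e' he he' heq
      have hm : (w ^ i * e)⁻¹ * (w ^ j * e') ∈ D1 := hle (by
        show (((w ^ i * e)⁻¹ * (w ^ j * e') : D) : G) • a = a
        rw [Subgroup.coe_mul, Subgroup.coe_inv, ← smul_smul, ← heq, inv_smul_smul])
      have hij : (QuotientGroup.mk' D1) w ^ i = (QuotientGroup.mk' D1) w ^ j := by
        have := (QuotientGroup.eq (s := D1)).mpr hm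
        simpa [(QuotientGroup.eq_one_iff e).mpr he, (QuotientGroup.eq_one_iff e').mpr he'] using this
      have hord : orderOf ((QuotientGroup.mk' D1) w) = p :=
        orderOf_eq_prime (by rw [← map_pow]; exact (QuotientGroup.eq_one_iff _).mpr hwp)
          (fun h => hwD1 ((QuotientGroup.eq_one_iff w).mp h))
      have := pow_eq_pow_iff_modEq.mp hij
      rw [hord] at this
      rwa [Nat.ModEq, Nat.mod_eq_of_lt hi, Nat.mod_eq_of_lt hj] at this
    calc ∏ b ∈ O, φ b = ∏ x ∈ Finset.range p ×ˢ O1, φ (v ^ x.1 • x.2) := by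
          symm
          refine Finset.prod_bij (fun x _ => v ^ x.1 • x.2) ?_ ?_ ?_ (fun _ _ => rfl)
          · intro x hx
            obtain ⟨e, he, hea⟩ := (Finset.mem_filter.mp (Finset.mem_product.mp hx).2).2
            exact (hOmem _).mpr ⟨v ^ x.1 * e, D.mul_mem (D.pow_mem hvD _) e.2,
              by rw [← smul_smul, hea]⟩
          · intro x hx y hy hxy
            obtain ⟨hx1, hx2⟩ := Finset.mem_product.mp hx
            obtain ⟨hy1, hy2⟩ := Finset.mem_product.mp hy
            obtain ⟨e, he, hea⟩ := (Finset.mem_filter.mp hx2).2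
            obtain ⟨e', he', hea'⟩ := (Finset.mem_filter.mp hy2).2
            have hij : x.1 = y.1 := huniq _ _ (Finset.mem_range.mp hx1) (Finset.mem_range.mp hy1)
              e e' he he' (by simpa [hw, ← smul_smul, hea, hea'] using hxy)
            refine Prod.ext hij (MulAction.injective (v ^ x.1) ?_)
            simpa [hij] using hxy
          · intro b hb
            obtain ⟨d, hd, rfl⟩ := (hOmem b).mp hb
            obtain ⟨i, hi, e, he, hde⟩ := hcoset ⟨d, hd⟩
            refine ⟨(i, (e : G) • a), Finset.mem_product.mpr ⟨Finset.mem_range.mpr hi,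
              Finset.mem_filter.mpr ⟨(hOmem _).mpr ⟨e, e.2, rfl⟩, e, he, rfl⟩⟩, ?_⟩
            show v ^ i • (e : G) • a = d • a
            rw [smul_smul]
            exact congrArg (· • a) (congrArg Subtype.val hde).symm
      _ = 1 := by
          rw [Finset.prod_product]
          refine hnorm v hv (D1.map D.subtype) (map_subtype_le D1) ?_ ?_ O1 ?_
          · rintro ⟨e, he, hev⟩
            exact hwD1 (by rwa [show w = e from Subtype.ext hev.symm])
          · intro d hd
            obtain ⟨i, hi, e, he, hde⟩ := hcoset ⟨d, hd⟩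
            exact ⟨i, hi, e, ⟨e, he, rfl⟩, congrArg Subtype.val hde⟩
          · rintro _ ⟨e, he, rfl⟩ b hb
            obtain ⟨hbO, e', he', rfl⟩ := Finset.mem_filter.mp hb
            exact Finset.mem_filter.mpr ⟨(hOmem _).mpr ⟨e * e', D.mul_mem e.2 e'.2, (smul_smul _ _ _).symm⟩,
              e * e', D1.mul_mem he he', (smul_smul _ _ _).symm⟩

end Cfsg.Agent.Lib.CentralElement
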