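import Cfsg.Agent.Lib.ZJ.Family
import Cfsg.Prelude.Def_PLocal
import Cfsg.Prelude.Def_ConjugacyFunctors

/-!
# An abelian subgroup of largest order outside a normal subgroup, normalised by a central part

Consequence of the replacement theorem; it supplies quadratically acting elements.
-/

set_option autoImplicit false

namespace Cfsg.Agent.Lib.CentralElement

open Subgroup

/-- If some member of largest order is outside `P`, one of them is normalised by `B`, where `B` is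
a normal abelian subgroup inside `P` centralised by `P`. -/
theorem exists_normalized_not_le {Q : Type*} [Group Q] [Finite Q] {p : ℕ} [Fact p.Prime]
    (hQ : IsPGroup p Q) (P B : Subgroup Q) [B.Normal] (hBP : B ≤ P)
    (hPB : ∀ b ∈ B, ∀ q ∈ P, Commute b q)
    (h : ∃ A ∈ ZJ.fam 0 (⊤ : Subgroup Q), ¬ A ≤ P) :
    ∃ A ∈ ZJ.fam 0 (⊤ : Subgroup Q), ¬ A ≤ P ∧ B ≤ normalizer (A : Set Q) := by
  by_contra hcon
  push Not at hcon
  have hB : ∀ A ∈ ZJ.fam 0 (⊤ : Subgroup Q), A ≤ P → B ≤ A := fun A hA hAP b hb =>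
    ZJ.mem_of_commute hA (mem_top b) (pow_zero b) fun a ha => hPB b hb a (hAP ha)
  obtain ⟨A₀, hA₀, hA₀P⟩ := h
  obtain ⟨A, ⟨hA, hAn⟩, hmax⟩ := Set.exists_max_image
    {A : Subgroup Q | A ∈ ZJ.fam 0 (⊤ : Subgroup Q) ∧ ¬ B ≤ normalizer (A : Set Q)}
    (fun A => Nat.card (A ⊓ B : Subgroup Q)) (Set.toFinite _) ⟨A₀, hA₀, hcon A₀ hA₀ hA₀P⟩
  obtain ⟨b, hb, hbN, hbA⟩ := ZJ.exists_moving hQ B A hAn
  have hBB : ⁅B, B⁆ ≤ A := by
    rw [commutator_le]
    intro u hu v hv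
    rw [commutatorElement_eq_one_iff_commute.2 (hPB u hu v (hBP hv))]
    exact one_mem A
  obtain ⟨hcard, hcomm, -, hlt, -, -, hAN, -, -, -, -⟩ :=
    ZJ.replacement B A hA.2.1.1 hBB (Or.inr fun u hu v hv => hPB u hu v (hBP hv)) hb hbN hbA
  have hA' : ZJ.replaced A b ∈ ZJ.fam 0 (⊤ : Subgroup Q) :=
    ⟨le_top, ⟨hcomm, fun x _ => pow_zero x⟩, fun C hC hC' => (hA.2.2 C hC hC').trans hcard.ge⟩
  by_cases hn : B ≤ normalizer (ZJ.replaced A b : Set Q)
  · by_cases hP : ZJ.replaced A b ≤ P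
    · exact hAn ((hB _ hA' hP).trans hAN)
    · exact hcon _ hA' hP hn
  · exact absurd (hmax _ ⟨hA', hn⟩) (not_le_of_gt (Set.ncard_lt_ncard hlt (Set.toFinite _)))

variable {G : Type*} [Group G]

/-- `J(T)` is generated by the members of largest order. -/
theorem thompsonSubgroupAOf_le_iff {T K : Subgroup G} :
    Cfsg.thompsonSubgroupAOf T ≤ K ↔ ∀ A ∈ ZJ.fam 0 T, A ≤ K := by
  rw [Cfsg.thompsonSubgroupAOf, map_le_iff_le_comap, Cfsg.thompsonSubgroupA, sSup_le_iff]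
  constructor
  · intro h A hA
    have hmem : A.subgroupOf T ∈ Cfsg.maxAbelianSubgroups T := by
      refine ⟨⟨⟨fun a b => Subtype.ext (Subtype.ext (hA.2.1.1 _ a.2 _ b.2))⟩⟩, fun B hB => ?_⟩
      rw [Nat.card_congr (subgroupOfEquivOfLe hA.1).toEquiv,
        ← card_map_of_injective T.subtype_injective]
      haveI := hB
      exact hA.2.2 _ (map_subtype_le B) (ZJ.abExp_zero.2 inferInstance)
    intro a ha
    exact h _ hmem (show (⟨a, hA.1 ha⟩ : T) ∈ A.subgroupOf T from ha)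
  · intro h A hA
    haveI := hA.1
    have hmem : A.map T.subtype ∈ ZJ.fam 0 T := by
      refine ⟨map_subtype_le A, ZJ.abExp_zero.2 inferInstance, fun B hB hB' => ?_⟩
      rw [card_map_of_injective T.subtype_injective,
        ← Nat.card_congr (subgroupOfEquivOfLe hB).toEquiv]
      exact hA.2 _ ⟨⟨fun a b => Subtype.ext (Subtype.ext (hB'.1 _ a.2 _ b.2))⟩⟩
    intro a ha
    exact h _ hmem (mem_map_of_mem _ ha)

theorem mem_fam_map_top {T : Subgroup G} {A : Subgroup T} (hA : A ∈ ZJ.fam 0 (⊤ : Subgroup T)) :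
    A.map T.subtype ∈ ZJ.fam 0 T := by
  refine ⟨map_subtype_le A, ZJ.abExp_map hA.2.1 T.subtype, fun B hB hB' => ?_⟩
  rw [card_map_of_injective T.subtype_injective, ← Nat.card_congr (subgroupOfEquivOfLe hB).toEquiv]
  exact hA.2.2 _ le_top ⟨fun a ha b hb => Subtype.ext (hB'.1 _ ha _ hb), fun a _ => pow_zero a⟩

theorem mem_fam_subgroupOf {T A : Subgroup G} (hA : A ∈ ZJ.fam 0 T) :
    A.subgroupOf T ∈ ZJ.fam 0 (⊤ : Subgroup T) := by
  refine ⟨le_top, ⟨fun a ha b hb => Subtype.ext (hA.2.1.1 _ ha _ hb), fun a _ => pow_zero a⟩,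
    fun B _ hB' => ?_⟩
  rw [Nat.card_congr (subgroupOfEquivOfLe hA.1).toEquiv,
    ← card_map_of_injective T.subtype_injective]
  exact hA.2.2 _ (map_subtype_le B) (ZJ.abExp_map hB' T.subtype)

/-- The ambient form. -/
theorem exists_normalized_not_le_of [Finite G] {p : ℕ} [Fact p.Prime] {T P B : Subgroup G}
    (hT : IsPGroup p T) (hBP : B ≤ P) (hPT : P ≤ T) (hBn : T ≤ normalizer (B : Set G))
    (hPB : ∀ b ∈ B, ∀ q ∈ P, Commute b q) (hJ : ¬ Cfsg.thompsonSubgroupAOf T ≤ P) :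
    ∃ A ∈ ZJ.fam 0 T, ¬ A ≤ P ∧ B ≤ normalizer (A : Set G) := by
  haveI : (B.subgroupOf T).Normal :=
    (normal_subgroupOf_iff_le_normalizer (hBP.trans hPT)).2 hBn
  rw [thompsonSubgroupAOf_le_iff] at hJ
  push Not at hJ
  obtain ⟨A₀, hA₀, hA₀P⟩ := hJ
  obtain ⟨A, hA, hAP, hAn⟩ := exists_normalized_not_le hT (P.subgroupOf T) (B.subgroupOf T)
    (fun b hb => hBP hb) (fun b hb q hq => Subtype.ext (hPB _ hb _ hq))
    ⟨A₀.subgroupOf T, mem_fam_subgroupOf hA₀, fun h => hA₀P fun a ha =>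
      h (show (⟨a, hA₀.1 ha⟩ : T) ∈ A₀.subgroupOf T from ha)⟩
  refine ⟨A.map T.subtype, mem_fam_map_top hA, fun h => hAP fun a ha =>
    h (mem_map_of_mem T.subtype ha), fun b hb => ?_⟩
  exact le_normalizer_map T.subtype
    (mem_map_of_mem T.subtype (hAn (show (⟨b, hPT (hBP hb)⟩ : T) ∈ B.subgroupOf T from hb)))

end Cfsg.Agent.Lib.CentralElement
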