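import Cfsg.Agent.Lib.CentralElement.Core
import Cfsg.Agent.Lib.Functor.WeakClosureCore
import Cfsg.Agent.Lib.Involves.Basic

/-!
# Glauberman's theorem on central elements of `N(J(S))`

If `p` is odd, or the element is a `p`-th power in `Z(S)`, or `S₄` is not involved, an element of
`S` centralising `N(J(S))` is weakly closed in `S`.
-/

set_option autoImplicit false
set_option maxHeartbeats 400000

namespace Cfsg.Agent.Lib.CentralElement

open Subgroup Cfsg
open scoped commutatorElement

universe u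

variable {G : Type u} [Group G]

theorem thompsonSubgroupAOf_map {K : Type*} [Group K] (f : G →* K) (hf : Function.Injective f)
    (T : Subgroup G) : thompsonSubgroupAOf (T.map f) = (thompsonSubgroupAOf T).map f := by
  refine le_antisymm (thompsonSubgroupAOf_le_iff.2 fun B hB => ?_) (map_le_iff_le_comap.2
    (thompsonSubgroupAOf_le_iff.2 fun A hA => map_le_iff_le_comap.1 ?_))
  · obtain ⟨A, hA, rfl⟩ := (ZJ.fam_map_iff f hf.injOn).1 hB
    exact map_mono (thompsonSubgroupAOf_le_iff.1 le_rfl A hA)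
  · exact thompsonSubgroupAOf_le_iff.1 le_rfl _ ((ZJ.fam_map_iff f hf.injOn).2 ⟨A, hA, rfl⟩)

theorem centre_le_thompsonSubgroupAOf [Finite G] (T : Subgroup G) :
    T ⊓ centralizer (T : Set G) ≤ thompsonSubgroupAOf T := by
  intro z hz
  obtain ⟨A, hA⟩ := ZJ.exists_mem_fam 0 T
  exact thompsonSubgroupAOf_le_iff.1 le_rfl A hA (ZJ.mem_of_commute hA hz.1 (pow_zero z)
    fun a ha => (mem_centralizer_iff.1 hz.2 a (hA.1 ha)).symm)

theorem thompsonSubgroupAOf_le_self (T : Subgroup G) : thompsonSubgroupAOf T ≤ T :=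
  thompsonSubgroupAOf_le_iff.2 fun _ hA => hA.1

theorem isConjugacyFunctor_thompsonSubgroupAOf [Finite G] {p : ℕ} [Fact p.Prime] :
    IsConjugacyFunctor (G := G) p thompsonSubgroupAOf := by
  intro P hP
  refine ⟨thompsonSubgroupAOf_le_self P, fun hne h => ?_, fun g =>
    thompsonSubgroupAOf_map _ (MulAut.conj g).injective P⟩
  have : Nontrivial P := (Subgroup.nontrivial_iff_ne_bot P).2 hne
  haveI := hP.center_nontrivial
  obtain ⟨⟨⟨z, hz⟩, hzc⟩, hz1⟩ := exists_ne (1 : center P)
  have hmem : z ∈ P ⊓ centralizer (P : Set G) :=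
    ⟨hz, mem_centralizer_iff.2 fun q hq => congrArg Subtype.val (mem_center_iff.1 hzc ⟨q, hq⟩)⟩
  have := centre_le_thompsonSubgroupAOf P hmem
  rw [h, mem_bot] at this
  exact hz1 (Subtype.ext (Subtype.ext this))

/-- An element outside `O_p(H)` acting quadratically on its centre. -/
theorem exists_quadratic [Finite G] {p : ℕ} [Fact p.Prime] {H T : Subgroup G}
    (hT : Functor.IsSylowIn p H T)
    (hn : ¬ H ≤ normalizer ((thompsonSubgroupAOf T : Subgroup G) : Set G)) :
    ∃ g : G, g ∈ T ∧ g ∉ pCoreOf p H ∧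
      ⁅⁅pCoreOf p H ⊓ centralizer ((pCoreOf p H : Subgroup G) : Set G), zpowers g⁆, zpowers g⁆
        = ⊥ := by
  set P := pCoreOf p H with hPdef
  have hPT : P ≤ T := Functor.pCoreOf_le_sylow hT
  have hHP : H ≤ normalizer (P : Set G) := Functor.le_normalizer_pCoreOf H
  have hJ : ¬ thompsonSubgroupAOf T ≤ P := by
    intro h
    have heq : thompsonSubgroupAOf T = thompsonSubgroupAOf P := by
      rw [thompsonSubgroupAOf_le_iff] at h
      refine le_antisymm (thompsonSubgroupAOf_le_iff.2 fun A hA => ?_)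
        (thompsonSubgroupAOf_le_iff.2 fun A hA => ?_)
      · exact thompsonSubgroupAOf_le_iff.1 le_rfl A
          ⟨h A hA, hA.2.1, fun B hB hB' => hA.2.2 B (hB.trans hPT) hB'⟩
      · obtain ⟨A0, hA0⟩ := ZJ.exists_mem_fam 0 T
        exact thompsonSubgroupAOf_le_iff.1 le_rfl A ⟨hA.1.trans hPT, hA.2.1, fun B hB hB' =>
          (hA0.2.2 B hB hB').trans (hA.2.2 A0 (h A0 hA0) hA0.2.1)⟩
    refine hn fun k hk => Functor.mem_normalizer_of_cj_eq ?_
    rw [heq, Functor.cj, ← thompsonSubgroupAOf_map _ (MulAut.conj k).injective]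
    exact congrArg thompsonSubgroupAOf (Functor.cj_eq_self_of_mem (hHP hk))
  have hBn : T ≤ normalizer ((P ⊓ centralizer (P : Set G) : Subgroup G) : Set G) := by
    intro t ht
    refine Functor.mem_normalizer_of_cj_le (Functor.cj_le_iff.2 fun y hy => mem_inf.2
      ⟨(mem_normalizer_iff.1 (hHP (hT.le ht)) y).1 (mem_inf.1 hy).1, mem_centralizer_iff.2 fun u hu => ?_⟩)
    have h1 : t⁻¹ * u * t ∈ P := (mem_normalizer_iff''.mp (hHP (hT.le ht)) u).mp hu
    calc u * (t * y * t⁻¹) = t * (t⁻¹ * u * t * y) * t⁻¹ := by group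
      _ = t * (y * (t⁻¹ * u * t)) * t⁻¹ := by rw [mem_centralizer_iff.1 (mem_inf.1 hy).2 _ h1]
      _ = t * y * t⁻¹ * u := by group
  obtain ⟨A, hA, hAP, hAN⟩ := exists_normalized_not_le_of hT.isPGroup (inf_le_left) hPT hBn
    (fun b hb q hq => (mem_centralizer_iff.1 (mem_inf.1 hb).2 q hq).symm) hJ
  obtain ⟨g, hgA, hgP⟩ := SetLike.not_le_iff_exists.1 hAP
  refine ⟨g, hA.1 hgA, hgP, ?_⟩
  rw [commutator_eq_bot_iff_le_centralizer]
  have hzA : zpowers g ≤ A := zpowers_le.2 hgA
  have h1 : ⁅P ⊓ centralizer (P : Set G), zpowers g⁆ ≤ A := by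
    rw [commutator_le]
    intro u hu a ha
    rw [commutatorElement_def]
    exact mul_mem ((mem_normalizer_iff.1 (hAN hu) a).1 (hzA ha)) (inv_mem (hzA ha))
  intro c hc
  exact mem_centralizer_iff.2 fun a ha => hA.2.1.1 a (hzA ha) c (h1 hc)

theorem quadratic_degree [Finite G] {p : ℕ} [Fact p.Prime] (hp : p ≠ 2) {H : Subgroup G} {g : G}
    (hq : ⁅⁅pCoreOf p H ⊓ centralizer ((pCoreOf p H : Subgroup G) : Set G), zpowers g⁆, zpowers g⁆
        = ⊥) (U V : Subgroup H)
    (hU : U.map H.subtype ≤ pCoreOf p H ⊓ centralizer ((pCoreOf p H : Subgroup G) : Set G)) :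
    iterCommutator (U.map H.subtype) (zpowers g) (p - 1) ≤ V.map H.subtype := by
  have h2 : 2 ≤ p - 1 := by
    have := (Fact.out : p.Prime).two_le
    omega
  have hstep : ∀ k, iterCommutator (U.map H.subtype) (zpowers g) (k + 2) ≤ ⊥ := by
    intro k
    induction k with
    | zero => exact (commutator_mono (commutator_mono hU le_rfl) le_rfl).trans hq.le
    | succ k ih => exact (commutator_mono ih le_rfl).trans (commutator_bot_left _).le
  obtain ⟨k, hk⟩ := Nat.exists_eq_add_of_le h2
  rw [hk, add_comm]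
  exact (hstep k).trans bot_le

theorem centralizer_zpowers_eq (x : G) :
    centralizer ((zpowers x : Subgroup G) : Set G) = centralizer ({x} : Set G) :=
  le_antisymm (centralizer_le (Set.singleton_subset_iff.2 (mem_zpowers x))) fun g hg =>
    mem_centralizer_iff.2 fun u hu => by
      obtain ⟨k, rfl⟩ := mem_zpowers_iff.1 hu
      exact ((show Commute x g from (mem_centralizer_singleton_iff.1 hg).symm).zpow_left k).eq

/-- The local statement behind the theorem. -/
theorem le_centralizer_local [Finite G] {p : ℕ} [Fact p.Prime] {x z : G}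
    (h : p ≠ 2 ∨ z ^ p = x ∨ ¬ Involves (Equiv.Perm (Fin 4)) G)
    (hzx : x ∈ zpowers z) {H T : Subgroup G} (hT : Functor.IsSylowIn p H T)
    (hYc : T ≤ centralizer ((zpowers z : Subgroup G) : Set G)) (hYP : zpowers z ≤ pCoreOf p H)
    (hn : ¬ H ≤ normalizer ((thompsonSubgroupAOf T : Subgroup G) : Set G))
    (hsub : ∀ K : Subgroup G, K < H → T ≤ K → K ≤ centralizer ({x} : Set G)) :
    H ≤ centralizer ({x} : Set G) := by
  obtain ⟨v, hv, hvP, hq⟩ := exists_quadratic hT hn
  have hxP : x ∈ pCoreOf p H := hYP hzx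
  have hTx : T ≤ centralizer ({x} : Set G) := hYc.trans (centralizer_le
    (Set.singleton_subset_iff.2 hzx))
  by_cases hp : p ≠ 2
  · exact Functor.le_centralizer_of_degree hT hTx hxP hv hvP
      (fun U V _ hU => quadratic_degree hp hq U V hU) hsub
  by_cases hzp : z ^ p = x
  · refine Functor.le_of_quadratic hT hYc hYP (A := zpowers x) (zpowers_le.2 (subset_closure
      ⟨z, mem_zpowers z, hzp⟩)) (centralizer_zpowers_eq x).le hv hvP hq hsub
  have hfree := (h.resolve_left hp).resolve_left hzp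
  obtain rfl : p = 2 := not_not.1 hp
  -- the square
  have hle2 : centralizer ({x} : Set G) ≤ centralizer ({x ^ 2} : Set G) := fun g hg =>
    mem_centralizer_singleton_iff.2
      ((show Commute g x from mem_centralizer_singleton_iff.1 hg).pow_right 2).eq
  have hH2 : H ≤ centralizer ({x ^ 2} : Set G) :=
    Functor.le_of_quadratic hT (Y := zpowers x) (hYc.trans (centralizer_le
      (SetLike.coe_subset_coe.2 (zpowers_le.2 hzx)))) (zpowers_le.2 hxP) (A := zpowers (x ^ 2))
      (zpowers_le.2 (subset_closure ⟨x, mem_zpowers x, rfl⟩)) (centralizer_zpowers_eq (x ^ 2)).le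
      hv hvP hq fun K hK hTK => (hsub K hK hTK).trans hle2
  -- inside `H`
  have hxH : x ∈ H := (map_subtype_le _) hxP
  obtain ⟨S', hS'⟩ := hT.exists_sylow
  have hmap : (S' : Subgroup H).map H.subtype = T := by
    rw [hS', subgroupOf_map_subtype, inf_eq_left.2 hT.le]
  have hc : (⟨x, hxH⟩ : H) ∈ center H := by
    refine mem_center_of_s4Free S' ?_ ?_ ?_ ?_ ?_ ?_
    · obtain ⟨y, hy, hyx⟩ := hxP
      rwa [show (⟨x, hxH⟩ : H) = y from Subtype.ext hyx.symm]
    · intro t ht
      rw [hS'] at ht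
      exact mem_centralizer_singleton_iff.2
        (Subtype.ext (mem_centralizer_singleton_iff.1 (hTx (mem_subgroupOf.1 ht))))
    · intro K hK hSK k hk
      have hlt : K.map H.subtype < H := lt_of_le_of_ne (map_subtype_le K) fun he => hK
        (map_injective H.subtype_injective (he.trans (by rw [← MonoidHom.range_eq_map]; simp)))
      have hTK : T ≤ K.map H.subtype := hmap ▸ map_mono hSK
      exact mem_centralizer_singleton_iff.2
        (Subtype.ext (mem_centralizer_singleton_iff.1 (hsub _ hlt hTK (mem_map_of_mem _ hk))))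
    · exact mem_center_iff.2 fun k =>
        Subtype.ext (mem_centralizer_singleton_iff.1 (hH2 k.2))
    · intro hle
      refine hn fun k hk => ?_
      have h1 : thompsonSubgroupAOf T ≤ pCoreOf 2 H := by
        rw [← hmap, thompsonSubgroupAOf_map _ H.subtype_injective]
        exact map_mono hle
      refine Functor.mem_normalizer_of_cj_eq ?_
      have heq : thompsonSubgroupAOf T = thompsonSubgroupAOf (pCoreOf 2 H) := by
        have hPT := Functor.pCoreOf_le_sylow hT
        rw [thompsonSubgroupAOf_le_iff] at h1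
        refine le_antisymm (thompsonSubgroupAOf_le_iff.2 fun A hA => ?_)
          (thompsonSubgroupAOf_le_iff.2 fun A hA => ?_)
        · exact thompsonSubgroupAOf_le_iff.1 le_rfl A
            ⟨h1 A hA, hA.2.1, fun B hB hB' => hA.2.2 B (hB.trans hPT) hB'⟩
        · obtain ⟨A0, hA0⟩ := ZJ.exists_mem_fam 0 T
          exact thompsonSubgroupAOf_le_iff.1 le_rfl A ⟨hA.1.trans hPT, hA.2.1, fun B hB hB' =>
            (hA0.2.2 B hB hB').trans (hA.2.2 A0 (h1 A0 hA0) hA0.2.1)⟩
      rw [heq, Functor.cj, ← thompsonSubgroupAOf_map _ (MulAut.conj k).injective]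
      exact congrArg thompsonSubgroupAOf
        (Functor.cj_eq_self_of_mem (Functor.le_normalizer_pCoreOf H hk))
    · exact fun hI => hfree (Involves.of_injective H.subtype H.subtype_injective hI)
  intro k hk
  exact mem_centralizer_singleton_iff.2
    (congrArg Subtype.val (mem_center_iff.1 hc ⟨k, hk⟩))

/-- **Glauberman**: central elements of `N(J(S))` are weakly closed in `S`. -/
theorem weaklyClosed_of_central [Finite G] {p : ℕ} [Fact p.Prime] (S : Sylow p G) {x : G}
    (hxS : x ∈ (S : Subgroup G))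
    (hxN : ∀ n ∈ normalizer ((thompsonSubgroupAOf (S : Subgroup G) : Subgroup G) : Set G),
      n * x = x * n)
    (h : p ≠ 2 ∨ (∃ z ∈ (S : Subgroup G) ⊓ centralizer ((S : Subgroup G) : Set G), z ^ p = x) ∨
      ¬ Involves (Equiv.Perm (Fin 4)) G) :
    ∀ g : G, g * x * g⁻¹ ∈ (S : Subgroup G) → g * x * g⁻¹ = x := by
  have hW := isConjugacyFunctor_thompsonSubgroupAOf (G := G) (p := p)
  have hSN : (S : Subgroup G) ≤ normalizer ((thompsonSubgroupAOf (S : Subgroup G) : Subgroup G) : Set G) :=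
    le_normalizer.trans (Functor.normalizer_le_normalizer_functor hW S.isPGroup')
  obtain ⟨z, hzS, hzx, h'⟩ : ∃ z ∈ (S : Subgroup G) ⊓ centralizer ((S : Subgroup G) : Set G),
      x ∈ zpowers z ∧ (p ≠ 2 ∨ z ^ p = x ∨ ¬ Involves (Equiv.Perm (Fin 4)) G) := by
    rcases h with h | ⟨z, hz, hzp⟩ | h
    · exact ⟨x, mem_inf.2 ⟨hxS, mem_centralizer_iff.2 fun s hs => hxN s (hSN hs)⟩, mem_zpowers x, Or.inl h⟩
    · exact ⟨z, hz, hzp ▸ pow_mem (mem_zpowers z) p, Or.inr (Or.inl hzp)⟩
    · exact ⟨x, mem_inf.2 ⟨hxS, mem_centralizer_iff.2 fun s hs => hxN s (hSN hs)⟩, mem_zpowers x,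
        Or.inr (Or.inr h)⟩
  intro g hg
  have key := Functor.weakClosure_reduction hW
    (fun P _ => centre_le_thompsonSubgroupAOf P) (A := zpowers x) (Y := zpowers z)
    (M0 := centralizer ({x} : Set G)) (zpowers_le.2 hzx) (centralizer_zpowers_eq x).le
    ((centralizer_zpowers_eq x).ge.trans (centralizer_le_normalizer _))
    (fun H T hT _ hTc hYP hn hsub => le_centralizer_local h' hzx hT hTc hYP hn hsub)
    ⊤ S (Functor.isSylowIn_top_of_sylow S) (zpowers_le.2 (mem_inf.1 hzS).1)
    (le_centralizer_iff.1 (zpowers_le.2 (mem_inf.1 hzS).2))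
    (inf_le_right.trans fun n hn => mem_centralizer_singleton_iff.2 (hxN n hn))
    g trivial (by
      rw [Functor.cj, MonoidHom.map_zpowers, zpowers_le]
      simpa using hg)
  rw [mem_centralizer_singleton_iff] at key
  rw [key, mul_inv_cancel_right]

end Cfsg.Agent.Lib.CentralElement
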